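import Cfsg.Agent.Lib.Coprime.MetaAction
import Cfsg.Agent.Lib.Fusion.SmallEssentialSL2

/-!
# Pure group theory towards strongly closed metacyclic subgroups
-/

set_option autoImplicit false

namespace Cfsg.Agent.Lib.H29.StrongMetaA

open Subgroup
open scoped commutatorElement

universe u

variable {p : ℕ} [hp : Fact p.Prime]

/-- A coprime automorphism of a nonabelian metacyclic `p`-group (`p` odd): the commutators lie in a cyclic
subgroup. -/
theorem exists_cyclic_comm {T : Type u} [Group T] [Finite T] (hp2 : p ≠ 2) (hT : IsPGroup p T)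
    (hm : Cfsg.IsMetacyclic T) (β : MulAut T) (hβ : (orderOf β).Coprime p) (hnc : ¬ IsMulCommutative T) :
    ∃ X : Subgroup T, IsCyclic X ∧ ∀ x : T, x⁻¹ * β x ∈ X := by
  classical
  by_cases hβ1 : β = 1
  · refine ⟨⊥, inferInstance, fun x => ?_⟩
    rw [hβ1]
    simp
  have hfA : Finite (MulAut T) := Finite.of_injective (fun e : MulAut T => (e : T → T)) DFunLike.coe_injective
  let A : Subgroup (MulAut T) := zpowers β
  let G := SemidirectProduct T A A.subtype
  have hG : Finite G := Finite.of_equiv _ (SemidirectProduct.equivProd (N := T) (G := A) (φ := A.subtype)).symm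
  let iT : T →* G := SemidirectProduct.inl
  let iA : A →* G := SemidirectProduct.inr
  have hiT : Function.Injective iT := SemidirectProduct.inl_injective
  have hiA : Function.Injective iA := SemidirectProduct.inr_injective
  let R : Subgroup G := iT.range
  let A' : Subgroup G := iA.range
  have hRp : IsPGroup p R := hT.of_surjective iT.rangeRestrict iT.rangeRestrict_surjective
  have hRm : Cfsg.IsMetacyclic R :=
    Cfsg.Agent.Lib.Coprime.MetaAction.isMetacyclic_of_surjective iT.rangeRestrict iT.rangeRestrict_surjective hm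
  have hconj : ∀ (a : A) (v : T), iA a * iT v * (iA a)⁻¹ = iT ((a : MulAut T) v) := by
    intro a v
    rw [← map_inv]
    exact (SemidirectProduct.inl_aut (φ := A.subtype) a v).symm
  have hAR : A' ≤ normalizer (R : Set G) := by
    rintro _ ⟨a, rfl⟩
    rw [mem_normalizer_iff]
    intro x
    constructor
    · rintro ⟨v, rfl⟩
      exact ⟨(a : MulAut T) v, (hconj a v).symm⟩
    · rintro ⟨v, hv⟩
      refine ⟨(a : MulAut T)⁻¹ v, ?_⟩
      have h1 : iA a * iT ((a : MulAut T)⁻¹ v) * (iA a)⁻¹ = iT ((a : MulAut T) ((a : MulAut T)⁻¹ v)) :=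
        hconj a _
      rw [MulAut.apply_inv_self] at h1
      rw [hv] at h1
      exact mul_left_cancel (mul_right_cancel h1)
  have hcard : Nat.card A' = Nat.card A := Nat.card_congr (MonoidHom.ofInjective hiA).toEquiv.symm
  have hcop : (Nat.card A').Coprime p := by
    rw [hcard, Nat.card_zpowers]
    exact hβ
  have h1 : ¬ IsMulCommutative R := by
    intro hc
    apply hnc
    constructor
    constructor
    intro a b
    apply hiT
    have := hc.is_comm.comm (⟨iT a, ⟨a, rfl⟩⟩ : R) ⟨iT b, ⟨b, rfl⟩⟩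
    have h3 := congrArg Subtype.val this
    simp only [Subgroup.coe_mul] at h3
    rw [map_mul, map_mul]
    exact h3
  have h2 : ¬ A' ≤ centralizer (R : Set G) := by
    intro hc
    apply hβ1
    ext v
    apply hiT
    have h4 : iA ⟨β, mem_zpowers β⟩ ∈ centralizer (R : Set G) := hc ⟨_, rfl⟩
    have h5 := (mem_centralizer_iff.1 h4) (iT v) ⟨v, rfl⟩
    have h6 : iA ⟨β, mem_zpowers β⟩ * iT v * (iA ⟨β, mem_zpowers β⟩)⁻¹ = iT (β v) :=
      hconj ⟨β, mem_zpowers β⟩ v
    rw [← h6, ← h5]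
    simp
  obtain ⟨-, -, -, h⟩ := Cfsg.Agent.Lib.Coprime.MetaAction.main hp2 R A' hRp hRm hAR hcop
  obtain ⟨-, hcyc, -⟩ := h h1 h2
  refine ⟨(⁅R, A'⁆).comap iT, ?_, fun x => ?_⟩
  · let f : ↥((⁅R, A'⁆).comap iT) →* ↥⁅R, A'⁆ :=
      { toFun := fun x => ⟨iT x.1, x.2⟩
        map_one' := Subtype.ext (map_one iT)
        map_mul' := fun a b => Subtype.ext (map_mul iT _ _) }
    apply isCyclic_of_injective f
    intro a b hab
    exact Subtype.ext (hiT (congrArg Subtype.val hab))
  · rw [mem_comap]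
    have h7 : iT (x⁻¹ * β x) = ⁅iT x⁻¹, iA ⟨β, mem_zpowers β⟩⁆ := by
      have := Cfsg.Agent.Lib.FusionTheory.CoprimeAut.comm_inl_inr A x⁻¹ ⟨β, mem_zpowers β⟩
      rw [show iT x⁻¹ = SemidirectProduct.inl x⁻¹ from rfl]
      rw [show iA ⟨β, mem_zpowers β⟩ = SemidirectProduct.inr ⟨β, mem_zpowers β⟩ from rfl]
      rw [this]
      simp [iT]
    rw [h7]
    exact commutator_mem_commutator ⟨_, rfl⟩ ⟨_, rfl⟩

/-- **Frattini argument** for a homomorphism with a central target value. -/
theorem exists_mem_normalizer_of_central {G L : Type*} [Group G] [Finite G] [Group L] (Ψ : G →* L) (W : Sylow p G)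
    (g₀ : G) (hz : ∀ l : L, Ψ g₀ * l = l * Ψ g₀) :
    ∃ g : G, g ∈ normalizer ((W : Subgroup G) : Set G) ∧ Ψ g = Ψ g₀ := by
  classical
  let Y : Subgroup G := ((W : Subgroup G).map Ψ).comap Ψ
  have hWY : (W : Subgroup G) ≤ Y := le_comap_map Ψ _
  let W₂ : Sylow p G := g₀ • W
  have hW₂Y : (W₂ : Subgroup G) ≤ Y := by
    intro x hx
    have hx' : x ∈ (W : Subgroup G).map (MulAut.conj g₀).toMonoidHom := by
      simpa [W₂, Sylow.coe_subgroup_smul, Subgroup.pointwise_smul_def] using hx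
    obtain ⟨w, hw, rfl⟩ := hx'
    refine ⟨w, hw, ?_⟩
    show Ψ w = Ψ (g₀ * w * g₀⁻¹)
    rw [map_mul, map_mul, map_inv, hz]
    group
  obtain ⟨y, hy⟩ := MulAction.exists_smul_eq Y (W₂.subtype hW₂Y) (W.subtype hWY)
  rw [Sylow.smul_subtype hW₂Y] at hy
  have h5 : y • W₂ = W := Sylow.subtype_injective hy
  have hn : (y : G) * g₀ ∈ normalizer ((W : Subgroup G) : Set G) := by
    apply Sylow.smul_eq_iff_mem_normalizer.mp
    rw [mul_smul]
    exact h5
  obtain ⟨w, hw, hwy⟩ := y.2
  refine ⟨w⁻¹ * (y * g₀), ?_, ?_⟩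
  · exact mul_mem (le_normalizer (inv_mem hw)) hn
  · rw [map_mul, map_mul, map_inv, ← hwy]
    simp

section linear

variable {M : Type*} [AddCommGroup M] [Module (ZMod p) M] [Module.Finite (ZMod p) M]

local notation "End'" => Module.End (ZMod p) M

theorem sub_one_pow_finrank {z : End'} {k : ℕ} (hz : z ^ p ^ k = 1) : (z - 1) ^ Module.finrank (ZMod p) M = 0 := by
  rcases subsingleton_or_nontrivial M with hsub | hnt
  · have : Subsingleton End' := inferInstance
    exact Subsingleton.elim _ _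
  have hchar : CharP End' p := charP_of_injective_algebraMap
    (FaithfulSMul.algebraMap_injective (ZMod p) End') p
  have h1 : (z - 1) ^ p ^ k = 0 := by
    rw [sub_pow_char_pow_of_commute (R := End') (p := p) k (Commute.one_right z), hz, one_pow, sub_self]
  have h2 : IsNilpotent (z - 1) := ⟨_, h1⟩
  have h3 := (LinearMap.isNilpotent_iff_charpoly (z - 1)).1 h2
  have h4 := LinearMap.aeval_self_charpoly (z - 1)
  rw [h3] at h4
  simpa using h4

theorem pow_eq_one_of_finrank_le (hdim : Module.finrank (ZMod p) M ≤ 2) {z : End'} {k : ℕ} (hz : z ^ p ^ k = 1) :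
    z ^ p = 1 := by
  rcases subsingleton_or_nontrivial M with hsub | hnt
  · have : Subsingleton End' := inferInstance
    exact Subsingleton.elim _ _
  have hchar : CharP End' p := charP_of_injective_algebraMap
    (FaithfulSMul.algebraMap_injective (ZMod p) End') p
  have h0 := sub_one_pow_finrank hz
  have h1 : (z - 1) ^ p = 0 := pow_eq_zero_of_le (hdim.trans hp.out.two_le) h0
  rw [sub_pow_char_of_commute (R := End') (p := p) (Commute.one_right z)] at h1
  rw [one_pow] at h1
  exact sub_eq_zero.1 h1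

theorem eq_one_of_finrank_le_one (hdim : Module.finrank (ZMod p) M ≤ 1) {z : End'} {k : ℕ} (hz : z ^ p ^ k = 1) :
    z = 1 := by
  have h0 := sub_one_pow_finrank hz
  interval_cases h : Module.finrank (ZMod p) M
  · rw [pow_zero] at h0
    have : Subsingleton End' := subsingleton_of_zero_eq_one h0.symm
    exact Subsingleton.elim _ _
  · rw [pow_one] at h0
    exact sub_eq_zero.1 h0

/-- The word in two noncommuting `p`-elements of `GL₂(p)` which gives `-1`. -/
theorem exists_word (hdim : Module.finrank (ZMod p) M = 2) {x y : End'} (hx : x ^ p = 1) (hy : y ^ p = 1)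
    (hx1 : x ≠ 1) (hy1 : y ≠ 1) (hne : ∀ k : ℕ, y ≠ x ^ k) :
    ∃ k : ℕ, (x * y ^ ((p - 1) * k) * x) ^ 2 = -1 := by
  obtain ⟨e₁, e₂, k, hind, h1, h2, h3, h4⟩ :=
    Cfsg.Agent.Lib.Fusion.SmallEssentialSL2.exists_standard hdim hx hy hx1 hy1 hne
  refine ⟨k, ?_⟩
  have hp1 : 1 ≤ p := hp.out.one_le
  set l : End' := y ^ k with hl
  have hlp : l ^ p = 1 := by
    rw [hl, ← pow_mul, mul_comm, pow_mul, hy, one_pow]
  set L : End' := y ^ ((p - 1) * k) with hL
  have hLl : L * l = 1 := by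
    rw [hL, hl, ← pow_add]
    have : (p - 1) * k + k = p * k := by
      obtain ⟨q, rfl⟩ : ∃ q, p = q + 1 := ⟨p - 1, by omega⟩
      simp only [Nat.add_sub_cancel]
      ring
    rw [this, pow_mul, hy, one_pow]
  have hL2 : L e₂ = e₂ := by
    have := congrArg (fun f : End' => f e₂) hLl
    simp only [Module.End.mul_apply, Module.End.one_apply] at this
    rwa [h3] at this
  have hL1 : L e₁ = e₁ - e₂ := by
    have := congrArg (fun f : End' => f e₁) hLl
    simp only [Module.End.mul_apply, Module.End.one_apply] at this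
    rw [h4, map_add, hL2] at this
    exact eq_sub_of_add_eq this
  let w : End' := x * L * x
  have hw1 : w e₁ = - e₂ := by
    show x (L (x e₁)) = - e₂
    rw [h1, hL1, map_sub, h1, h2]
    abel
  have hw2 : w e₂ = e₁ := by
    show x (L (x e₂)) = e₁
    rw [h2, map_add, hL2, hL1, add_sub_cancel, h1]
  show w ^ 2 = -1
  apply Cfsg.Agent.Lib.Fusion.SmallEssentialSL2.ext_pair hdim hind
  · rw [sq, Module.End.mul_apply, hw1, map_neg, hw2]
    rfl
  · rw [sq, Module.End.mul_apply, hw2, hw1]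
    rfl

end linear

section comm

variable {Q : Type u} [CommGroup Q] [Finite Q] {G : Type*} [Group G]

open Cfsg.Agent.Lib.Fusion.SmallEssentialSL2 in
theorem exists_inversion_mod [Module (ZMod p) (Additive Q)] [Module.Finite (ZMod p) (Additive Q)]
    (hcard : Nat.card Q ≤ p ^ 2) (Ψ : G →* MulAut Q)
    {a b : G} {k : ℕ} (ha : a ^ p ^ k = 1) (hb : b ^ p ^ k = 1) (ha1 : Ψ a ≠ 1) (hne : Ψ b ∉ zpowers (Ψ a)) :
    Nat.card Q = p ^ 2 ∧ ∃ g : G, ∀ v : Q, Ψ g v = v⁻¹ := by
  classical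
  let x := toEnd p Q (Ψ a)
  let y := toEnd p Q (Ψ b)
  have hxk : x ^ p ^ k = 1 := by
    show toEnd p Q (Ψ a) ^ p ^ k = 1
    rw [← map_pow, ← map_pow, ha, map_one, map_one]
  have hyk : y ^ p ^ k = 1 := by
    show toEnd p Q (Ψ b) ^ p ^ k = 1
    rw [← map_pow, ← map_pow, hb, map_one, map_one]
  have hc : Nat.card (Additive Q) = p ^ Module.finrank (ZMod p) (Additive Q) := by
    rw [Module.natCard_eq_pow_finrank (K := ZMod p), Nat.card_zmod]
  have hc' : Nat.card Q = p ^ Module.finrank (ZMod p) (Additive Q) := hc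
  have hle : Module.finrank (ZMod p) (Additive Q) ≤ 2 := by
    rw [hc'] at hcard
    exact (Nat.pow_le_pow_iff_right hp.out.one_lt).1 hcard
  have hx1 : x ≠ 1 := by
    intro h
    apply ha1
    apply toEnd_injective (p := p)
    rw [map_one]
    exact h
  have hdim : Module.finrank (ZMod p) (Additive Q) = 2 := by
    by_contra hd
    exact hx1 (eq_one_of_finrank_le_one (by omega) hxk)
  have hy1 : y ≠ 1 := by
    intro h
    apply hne
    have : Ψ b = 1 := by
      apply toEnd_injective (p := p)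
      rw [map_one]
      exact h
    rw [this]
    exact one_mem _
  have hne' : ∀ k : ℕ, y ≠ x ^ k := by
    intro j hj
    apply hne
    have : Ψ b = Ψ a ^ j := by
      apply toEnd_injective (p := p)
      rw [map_pow]
      exact hj
    rw [this]
    exact npow_mem_zpowers _ j
  obtain ⟨j, hj⟩ := exists_word hdim (pow_eq_one_of_finrank_le hdim.le hxk)
    (pow_eq_one_of_finrank_le hdim.le hyk) hx1 hy1 hne'
  refine ⟨by rw [hc', hdim], (a * b ^ ((p - 1) * j) * a) ^ 2, fun v => ?_⟩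
  have h1 : toEnd p Q (Ψ ((a * b ^ ((p - 1) * j) * a) ^ 2)) = -1 := by
    rw [← hj]
    simp only [map_pow, map_mul]
    rfl
  have h2 := congrArg (fun f : Module.End (ZMod p) (Additive Q) => f (Additive.ofMul v)) h1
  have h3 : Additive.ofMul (Ψ ((a * b ^ ((p - 1) * j) * a) ^ 2) v) = -(Additive.ofMul v) := h2
  exact Additive.ofMul.injective h3

/-- Two noncommuting `p`-elements acting on an elementary abelian group of rank at most two: a word acts as
inversion (and the rank is exactly two). -/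
theorem exists_inversion (hQ : ∀ v : Q, v ^ p = 1) (hcard : Nat.card Q ≤ p ^ 2) (Ψ : G →* MulAut Q)
    {a b : G} {k : ℕ} (ha : a ^ p ^ k = 1) (hb : b ^ p ^ k = 1) (ha1 : Ψ a ≠ 1) (hne : Ψ b ∉ zpowers (Ψ a)) :
    Nat.card Q = p ^ 2 ∧ ∃ g : G, ∀ v : Q, Ψ g v = v⁻¹ := by
  have hp0 : ∀ m : Additive Q, p • m = 0 := fun m => by
    show Additive.ofMul (m.toMul ^ p) = 0
    rw [hQ]
    rfl
  have hfinM : Finite (Additive Q) := inferInstanceAs (Finite Q)
  letI m : Module (ZMod p) (Additive Q) := AddCommGroup.zmodModule hp0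
  exact @exists_inversion_mod p hp Q _ _ G _ m Module.Finite.of_finite hcard Ψ a b k ha hb ha1 hne

end comm

section frat

variable {W : Type u} [Group W] [Finite W]

open Cfsg.Agent.Lib.Fusion.SmallEssential

theorem frat_comm (hW : IsPGroup p W) (x y : W ⧸ frattini W) : x * y = y * x := by
  obtain ⟨x, rfl⟩ := QuotientGroup.mk_surjective x
  obtain ⟨y, rfl⟩ := QuotientGroup.mk_surjective y
  have h1 : ⁅x, y⁆ ∈ frattini W := Cfsg.Agent.Lib.PGroups.Basic.commutator_le_frattini hW
    (Subgroup.commutator_mem_commutator (Subgroup.mem_top _) (Subgroup.mem_top _))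
  have h2 : ((⁅x, y⁆ : W) : W ⧸ frattini W) = 1 := (QuotientGroup.eq_one_iff _).2 h1
  rw [commutatorElement_def, QuotientGroup.mk_mul, QuotientGroup.mk_mul, QuotientGroup.mk_mul,
    QuotientGroup.mk_inv, QuotientGroup.mk_inv] at h2
  have h3 := mul_inv_eq_one.1 h2
  rw [mul_inv_eq_iff_eq_mul] at h3
  exact h3

theorem frat_pow (hW : IsPGroup p W) (x : W ⧸ frattini W) : x ^ p = 1 := by
  obtain ⟨x, rfl⟩ := QuotientGroup.mk_surjective x
  rw [← QuotientGroup.mk_pow, QuotientGroup.eq_one_iff]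
  exact Cfsg.Agent.Lib.PGroups.Basic.pow_mem_frattini hW x

theorem card_frat_le (hW : IsPGroup p W) (hm : Cfsg.IsMetacyclic W) : Nat.card (W ⧸ frattini W) ≤ p ^ 2 := by
  classical
  obtain ⟨a, b, hs⟩ := Cfsg.Agent.Lib.Metacyclic.Basic.exists_setup hm
  have hpos : NeZero p := ⟨hp.out.ne_zero⟩
  let f : Fin p × Fin p → W ⧸ frattini W := fun q =>
    ((a : W) : W ⧸ frattini W) ^ (q.1 : ℕ) * ((b : W) : W ⧸ frattini W) ^ (q.2 : ℕ)
  have hf : Function.Surjective f := by
    intro q
    obtain ⟨x, rfl⟩ := QuotientGroup.mk_surjective q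
    obtain ⟨i, j, rfl⟩ := hs.gen x
    refine ⟨(⟨i % p, Nat.mod_lt _ hp.out.pos⟩, ⟨j % p, Nat.mod_lt _ hp.out.pos⟩), ?_⟩
    show ((a : W) : W ⧸ frattini W) ^ (i % p) * ((b : W) : W ⧸ frattini W) ^ (j % p) = _
    rw [← pow_eq_pow_mod i (frat_pow hW _), ← pow_eq_pow_mod j (frat_pow hW _)]
    rfl
  have h1 := Nat.card_le_card_of_surjective f hf
  simpa [sq] using h1

/-- Two noncommuting `p`-elements on the Frattini quotient of a metacyclic `p`-group. -/
theorem exists_inversion_frat {G : Type*} [Group G] (hW : IsPGroup p W) (hm : Cfsg.IsMetacyclic W)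
    (Ψ : G →* MulAut W) {a b : G} {k : ℕ} (ha : a ^ p ^ k = 1) (hb : b ^ p ^ k = 1)
    (ha1 : fratHom (Ψ a) ≠ 1) (hne : fratHom (Ψ b) ∉ zpowers (fratHom (Ψ a))) :
    Nat.card (W ⧸ frattini W) = p ^ 2 ∧ ∃ g : G, ∀ w : W, Ψ g w * w ∈ frattini W := by
  letI cg : CommGroup (W ⧸ frattini W) := { (inferInstance : Group (W ⧸ frattini W)) with mul_comm := frat_comm hW }
  obtain ⟨h1, g, hg⟩ := exists_inversion (Q := W ⧸ frattini W) (frat_pow hW) (card_frat_le hW hm)
    ((fratHom (V := W)).comp Ψ) ha hb ha1 hne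
  refine ⟨h1, g, fun w => ?_⟩
  have h2 := hg (w : W ⧸ frattini W)
  have h3 : ((Ψ g w : W) : W ⧸ frattini W) = (w : W ⧸ frattini W)⁻¹ := h2
  rw [← QuotientGroup.eq_one_iff, QuotientGroup.mk_mul, h3, inv_mul_cancel]

/-- An automorphism inverting the Frattini quotient: its commutators generate. -/
theorem eq_top_of_inversion (hp2 : p ≠ 2) (hW : IsPGroup p W) (γ : MulAut W) (hγ : ∀ w, γ w * w ∈ frattini W)
    (Z : Subgroup W) (hZ : ∀ w, w⁻¹ * γ w ∈ Z) : Z = ⊤ := by
  apply frattini_nongenerating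
  rw [eq_top_iff]
  intro w _
  have hΦ : frattini W ≤ Z ⊔ frattini W := le_sup_right
  have hzM : Z ≤ Z ⊔ frattini W := le_sup_left
  obtain ⟨m, hm⟩ : ∃ m, p = 2 * m + 1 := hp.out.odd_of_ne_two hp2
  have h1 : w⁻¹ * (γ w * w) * w ∈ frattini W :=
    (inferInstance : (frattini W).Normal).conj_mem' _ (hγ w) w
  have h2 : w ^ 2 = (w⁻¹ * γ w)⁻¹ * (w⁻¹ * (γ w * w) * w) := by
    rw [sq]
    group
  have h3 : w ^ 2 ∈ Z ⊔ frattini W := by
    rw [h2]
    exact mul_mem (inv_mem (hzM (hZ w))) (hΦ h1)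
  have h4 : w ^ p ∈ Z ⊔ frattini W := hΦ (Cfsg.Agent.Lib.PGroups.Basic.pow_mem_frattini hW w)
  have h5 : w ^ p = w * (w ^ 2) ^ m := by
    rw [hm, pow_succ', pow_mul]
  have h6 : w = w ^ p * ((w ^ 2) ^ m)⁻¹ := by
    rw [h5, mul_inv_cancel_right]
  rw [h6]
  exact mul_mem h4 (inv_mem (pow_mem h3 m))

end frat

end Cfsg.Agent.Lib.H29.StrongMetaA
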