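import Cfsg.Agent.Lib.PGroups.MetacyclicAut
import Cfsg.Agent.Lib.PGroups.ClassTwo
import Cfsg.Agent.Lib.Metacyclic.Basic
import Cfsg.Agent.Lib.H29.StrongMetaA
import Cfsg.Agent.Lib.Fusion.Supersoluble

/-!
# Nonabelian metacyclic `p`-groups, `p` odd: an invariant maximal subgroup
-/

set_option autoImplicit false

namespace Cfsg.Agent.Lib.H29.MetaSuperA

open Subgroup
open scoped commutatorElement
open Cfsg.Agent.Lib.PGroups.MetacyclicAut

variable {X : Type*} [Group X] [Finite X] {p : ℕ} [hp : Fact p.Prime]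

omit hp in
theorem card_le_of_cyclic_exp {Y : Type*} [Group Y] [Finite Y] (hc : IsCyclic Y) (hpp : 0 < p) (h : ∀ y : Y, y ^ p = 1) :
    Nat.card Y ≤ p := by
  obtain ⟨g, hg⟩ := hc.exists_generator
  have h1 : Nat.card Y = orderOf g := by
    rw [← Nat.card_zpowers]
    have : zpowers g = ⊤ := by
      rw [eq_top_iff]
      exact fun x _ => hg x
    rw [this]
    exact (Nat.card_congr Subgroup.topEquiv.toEquiv).symm
  rw [h1]
  exact Nat.le_of_dvd hpp (orderOf_dvd_of_pow_eq_one (h g))

omit hp in
/-- A subgroup of exponent `p` of a metacyclic group has order at most `p²`. -/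
theorem card_le_of_exp (hpp : 0 < p) (hm : Cfsg.IsMetacyclic X) (E : Subgroup X) (hE : ∀ x ∈ E, x ^ p = 1) :
    Nat.card E ≤ p ^ 2 := by
  obtain ⟨N, hN, hNc, hQc⟩ := hm
  let f : E →* X ⧸ N := (QuotientGroup.mk' N).comp E.subtype
  have h1 : Nat.card f.range ≤ p := by
    apply card_le_of_cyclic_exp inferInstance hpp
    rintro ⟨_, x, rfl⟩
    apply Subtype.ext
    show f x ^ p = 1
    rw [← map_pow]
    have : x ^ p = 1 := Subtype.ext (hE x x.2)
    rw [this, map_one]
  have h2 : Nat.card f.ker ≤ p := by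
    let g : f.ker →* N :=
      { toFun := fun x => ⟨x.1.1, (QuotientGroup.eq_one_iff _).1 x.2⟩
        map_one' := rfl
        map_mul' := fun _ _ => rfl }
    have hg : Function.Injective g := by
      intro a b hab
      exact Subtype.ext (Subtype.ext (congrArg (fun z : N => (z : X)) hab))
    haveI : IsCyclic f.ker := isCyclic_of_injective g hg
    apply card_le_of_cyclic_exp inferInstance hpp
    rintro ⟨x, hx⟩
    apply Subtype.ext
    apply Subtype.ext
    exact hE x x.2
  have h3 : Nat.card E = Nat.card f.ker * Nat.card f.range := by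
    rw [← Subgroup.index_ker, Subgroup.card_mul_index]
  rw [h3, sq]
  exact Nat.mul_le_mul h2 h1

omit hp in
/-- The Frattini quotient of a noncyclic group is not cyclic. -/
theorem not_cyclic_frat {G : Type*} [Group G] [Finite G] (h : IsCyclic (G ⧸ frattini G)) : IsCyclic G := by
  obtain ⟨q, hq⟩ := h.exists_generator
  obtain ⟨x, rfl⟩ := QuotientGroup.mk_surjective q
  refine ⟨x, fun y => ?_⟩
  have h1 : zpowers x ⊔ frattini G = ⊤ := by
    rw [eq_top_iff]
    intro y _
    obtain ⟨k, hk⟩ := mem_zpowers_iff.1 (hq (y : G ⧸ frattini G))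
    have h2 : (x ^ k)⁻¹ * y ∈ frattini G := by
      rw [← QuotientGroup.eq, ← hk, QuotientGroup.mk_zpow]
    have h3 : y = x ^ k * ((x ^ k)⁻¹ * y) := by group
    rw [h3]
    exact mul_mem_sup (zpow_mem (mem_zpowers x) k) h2
  have h4 : zpowers x = ⊤ := frattini_nongenerating h1
  show y ∈ zpowers x
  rw [h4]
  exact mem_top y

/-- An invariant maximal subgroup of a nonabelian metacyclic `p`-group, `p` odd. -/
theorem exists_invariant_max (hp2 : p ≠ 2) (hX : IsPGroup p X) (hm : Cfsg.IsMetacyclic X)
    (hnc : ∃ x y : X, x * y ≠ y * x) :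
    ∃ M : Subgroup X, frattini X ≤ M ∧ M ≠ frattini X ∧ M ≠ ⊤ ∧ ∀ σ : MulAut X, ∀ x ∈ M, σ x ∈ M := by
  classical
  have hm' := hm
  obtain ⟨a, b, han, hcomm, hform⟩ := exists_gens hm
  haveI := han
  -- the Frattini quotient is not cyclic
  have hVnc : ¬ IsCyclic (X ⧸ frattini X) := by
    intro h
    obtain ⟨x, y, hxy⟩ := hnc
    have h1 : IsCyclic X := not_cyclic_frat h
    obtain ⟨g, hg⟩ := h1.exists_generator
    obtain ⟨i, rfl⟩ := mem_zpowers_iff.1 (hg x)
    obtain ⟨j, rfl⟩ := mem_zpowers_iff.1 (hg y)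
    exact hxy ((Commute.refl g).zpow_zpow i j)
  have hAle : ¬ zpowers a ≤ frattini X := by
    intro hle
    apply hVnc
    refine ⟨(b : X ⧸ frattini X), fun q => ?_⟩
    obtain ⟨x, rfl⟩ := QuotientGroup.mk_surjective q
    obtain ⟨i, j, rfl⟩ := hform x
    refine mem_zpowers_iff.2 ⟨j, ?_⟩
    rw [QuotientGroup.mk_mul, QuotientGroup.mk_zpow]
    have : ((a ^ i : X) : X ⧸ frattini X) = 1 :=
      (QuotientGroup.eq_one_iff _).2 (hle (zpow_mem (mem_zpowers a) i))
    rw [this, mul_one]
  have hAA : ∀ u v : X, u ∈ zpowers a → v ∈ zpowers a → u * v = v * u := by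
    intro u v hu hv
    obtain ⟨i, rfl⟩ := mem_zpowers_iff.1 hu
    obtain ⟨j, rfl⟩ := mem_zpowers_iff.1 hv
    exact (Commute.refl a).zpow_zpow i j
  by_cases hcen : ∀ d ∈ commutator X, ∀ x : X, d * x = x * d
  · -- central commutator subgroup
    obtain ⟨k0, hk0⟩ : ∃ k, ∀ x : X, x ^ p ^ k = 1 := by
      obtain ⟨n, hn⟩ := IsPGroup.iff_card.1 hX
      exact ⟨n, fun x => by rw [← hn]; exact pow_card_eq_one'⟩
    obtain ⟨e, he1, x₀, hx₀⟩ : ∃ e, (∀ x : X, x ^ p ^ (e + 1) = 1) ∧ ∃ x₀ : X, x₀ ^ p ^ e ≠ 1 := by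
      have hP : ∃ k, ∀ x : X, x ^ p ^ k = 1 := ⟨k0, hk0⟩
      have hf := Nat.find_spec hP
      have hf0 : Nat.find hP ≠ 0 := by
        intro h0
        rw [h0] at hf
        obtain ⟨x, y, hxy⟩ := hnc
        apply hxy
        have hx : x = 1 := by simpa using hf x
        have hy : y = 1 := by simpa using hf y
        rw [hx, hy]
      obtain ⟨e, he⟩ := Nat.exists_eq_succ_of_ne_zero hf0
      refine ⟨e, ?_, ?_⟩
      · rw [he] at hf
        exact hf
      · have := Nat.find_min hP (m := e) (by omega)
        push Not at this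
        exact this
    have hDexp : ∀ c ∈ commutator X, c ^ p ^ e = 1 := by
      intro c hc
      by_contra hc1
      have hcA : c ∈ zpowers a := hcomm hc
      have hord : orderOf c = p ^ (e + 1) := orderOf_eq_prime_pow hc1 (he1 c)
      obtain ⟨k, rfl⟩ := Cfsg.Agent.Lib.Metacyclic.Basic.exists_natPow_of_mem_zpowers hcA
      have h1 : a ^ 1 ∈ zpowers (a ^ k) := by
        apply Cfsg.Agent.Lib.Metacyclic.Basic.mem_zpowers_of_orderOf_dvd
        rw [hord, pow_one]
        exact orderOf_dvd_of_pow_eq_one (he1 a)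
      rw [pow_one] at h1
      have h2 : zpowers a ≤ commutator X := by
        rw [zpowers_le]
        exact (zpowers_le.2 hc) h1
      exact hAle (h2.trans (Cfsg.Agent.Lib.PGroups.Basic.commutator_le_frattini hX))
    have hc : ∀ u v : X, ⁅u, v⁆ ∈ center X := by
      intro u v
      rw [mem_center_iff]
      intro g
      exact (hcen _ (commutator_mem_commutator (mem_top u) (mem_top v)) g).symm
    have hodd : Odd (p ^ e) := (hp.out.odd_of_ne_two hp2).pow
    let π : X →* X :=
      { toFun := fun x => x ^ p ^ e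
        map_one' := one_pow _
        map_mul' := fun x y => by
          rw [Cfsg.Agent.Lib.PGroups.ClassTwo.mul_pow hc x y]
          obtain ⟨m, hm⟩ : p ^ e ∣ (p ^ e).choose 2 := by
            obtain ⟨k, hk⟩ := hodd
            rw [hk, Nat.choose_two_right]
            have : (2 * k + 1) * (2 * k + 1 - 1) = 2 * ((2 * k + 1) * k) := by
              simp only [Nat.add_sub_cancel]
              ring
            rw [this, Nat.mul_div_cancel_left _ (by norm_num)]
            exact dvd_mul_right _ _
          rw [hm, pow_mul, hDexp _ (commutator_mem_commutator (mem_top y) (mem_top x)), one_pow, mul_one] }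
    have hπ : ∀ x, π x = x ^ p ^ e := fun _ => rfl
    have hKΦ : frattini X ≤ π.ker := by
      refine Cfsg.Agent.Lib.PGroups.Basic.frattini_le_of_normal (p := p) π.ker ?_ ?_
      · intro c hc'
        exact hDexp c hc'
      · intro x
        show (x ^ p) ^ p ^ e = 1
        rw [← pow_mul, ← pow_succ']
        exact he1 x
    have hKne : π.ker ≠ ⊤ := by
      intro h
      have : x₀ ∈ π.ker := by rw [h]; exact mem_top x₀
      exact hx₀ this
    have hKinv : ∀ σ : MulAut X, ∀ x ∈ π.ker, σ x ∈ π.ker := by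
      intro σ x hx
      have hx' : x ^ p ^ e = 1 := hx
      show (σ x) ^ p ^ e = 1
      rw [← map_pow, hx', map_one]
    by_cases hKeq : π.ker = frattini X
    · -- an element of order `p` in the commutator subgroup
      obtain ⟨x, y, hxy⟩ := hnc
      have hc1 : ⁅x, y⁆ ≠ 1 := by
        intro h
        exact hxy (commutatorElement_eq_one_iff_mul_comm.1 h)
      let c : X := ⁅x, y⁆
      have hcD : c ∈ commutator X := commutator_mem_commutator (mem_top x) (mem_top y)
      let z : X := c ^ (orderOf c / p)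
      have hz : orderOf z = p := Cfsg.Agent.Lib.PGroups.Basic.exists_orderOf_eq_of_ne_one hX hc1
      have hzD : z ∈ commutator X := Subgroup.pow_mem _ hcD _
      have hz1 : z ≠ 1 := by
        intro h
        rw [h, orderOf_one] at hz
        exact hp.out.one_lt.ne hz
      -- the size of the image
      have hVcard : p ^ 2 ≤ Nat.card (X ⧸ frattini X) := by
        have hVp : IsPGroup p (X ⧸ frattini X) := hX.of_surjective (QuotientGroup.mk' _) (QuotientGroup.mk'_surjective _)
        obtain ⟨j, hj⟩ := IsPGroup.iff_card.1 hVp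
        rw [hj]
        by_contra hlt
        have hj1 : j ≤ 1 := by
          by_contra hj2
          exact hlt (Nat.pow_le_pow_right hp.out.pos (by omega))
        interval_cases j
        · apply hVnc
          have : Subsingleton (X ⧸ frattini X) := by
            apply (Nat.card_eq_one_iff_unique.1 (by simpa using hj)).1
          exact inferInstance
        · apply hVnc
          exact isCyclic_of_prime_card (p := p) (by simpa using hj)
      have hIcard : Nat.card π.range = Nat.card (X ⧸ frattini X) := by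
        rw [← Subgroup.index_ker, hKeq]
        rfl
      let E : Subgroup X := π.range ⊔ zpowers z
      have hEexp : ∀ u ∈ E, u ^ p = 1 := by
        intro u hu
        haveI hzn : (zpowers z).Normal := by
          constructor
          intro n hn g
          obtain ⟨k, rfl⟩ := mem_zpowers_iff.1 hn
          have h1 : Commute g (z ^ k) := (Commute.zpow_right (show Commute g z from (hcen z hzD g).symm) k)
          rw [h1.eq, mul_inv_cancel_right]
          exact zpow_mem (mem_zpowers z) k
        have hu' : u ∈ ((π.range ⊔ zpowers z : Subgroup X) : Set X) := hu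
        rw [Subgroup.mul_normal] at hu'
        obtain ⟨_, ⟨x', rfl⟩, w, hw, rfl⟩ := Set.mem_mul.1 hu'
        have hwc : Commute (π x') w := by
          obtain ⟨k, rfl⟩ := mem_zpowers_iff.1 hw
          exact Commute.zpow_right (show Commute (π x') z from (hcen z hzD (π x')).symm) k
        rw [hwc.mul_pow]
        have h1 : π x' ^ p = 1 := by
          rw [hπ, ← pow_mul, ← pow_succ]
          exact he1 x'
        have h2 : w ^ p = 1 := by
          obtain ⟨k, rfl⟩ := mem_zpowers_iff.1 hw
          rw [← zpow_natCast, ← zpow_mul, mul_comm, zpow_mul, zpow_natCast, ← hz, pow_orderOf_eq_one, one_zpow]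
        rw [h1, h2, one_mul]
      have hEle := card_le_of_exp hp.out.pos hm' E hEexp
      have hIE : π.range ≤ E := le_sup_left
      have hIeq : π.range = E := by
        apply Subgroup.eq_of_le_of_card_ge hIE
        rw [hIcard]
        exact hEle.trans hVcard
      have hzI : z ∈ π.range := by
        rw [hIeq]
        exact mem_sup_right (mem_zpowers z)
      obtain ⟨x₁, hx₁⟩ := hzI
      refine ⟨(zpowers z).comap π, ?_, ?_, ?_, ?_⟩
      · intro u hu
        have : π u = 1 := hKΦ hu
        show π u ∈ zpowers z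
        rw [this]
        exact one_mem _
      · intro h
        have h1 : x₁ ∈ (zpowers z).comap π := by
          show π x₁ ∈ zpowers z
          rw [hx₁]
          exact mem_zpowers z
        rw [h, ← hKeq] at h1
        apply hz1
        rw [← hx₁]
        exact h1
      · intro h
        have h1 : π.range ≤ zpowers z := by
          rintro _ ⟨u, rfl⟩
          have : u ∈ (zpowers z).comap π := by rw [h]; exact mem_top u
          exact this
        have h2 : Nat.card π.range ≤ Nat.card (zpowers z) := Subgroup.card_le_of_le h1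
        rw [hIcard, Nat.card_zpowers, hz] at h2
        have h3 := hVcard.trans h2
        have h4 : p * 1 < p * p := Nat.mul_lt_mul_of_pos_left hp.out.one_lt hp.out.pos
        nlinarith
      · intro σ u hu
        have hu' : π u ∈ zpowers z := hu
        show π (σ u) ∈ zpowers z
        obtain ⟨k, hk⟩ := mem_zpowers_iff.1 hu'
        have h1 : π (σ u) = σ (π u) := by
          rw [hπ, hπ, map_pow]
        rw [h1, ← hk, map_zpow]
        apply zpow_mem
        have h2 : σ z ∈ commutator X := by
          have : (commutator X).Characteristic := inferInstance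
          exact (Cfsg.Agent.Lib.PGroups.MetacyclicAut.char_mem σ).2 hzD
        obtain ⟨i, hi⟩ := Cfsg.Agent.Lib.Metacyclic.Basic.exists_natPow_of_mem_zpowers (hcomm h2)
        obtain ⟨j, hj⟩ := Cfsg.Agent.Lib.Metacyclic.Basic.exists_natPow_of_mem_zpowers (hcomm hzD)
        rw [hi, hj]
        apply Cfsg.Agent.Lib.Metacyclic.Basic.mem_zpowers_of_orderOf_dvd
        rw [← hi, ← hj, hz, MulEquiv.orderOf_eq, hz]
    · exact ⟨π.ker, hKΦ, hKeq, hKne, hKinv⟩
  · -- the centralizer of the commutator subgroup
    push Not at hcen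
    obtain ⟨d, hd, x, hx⟩ := hcen
    let C : Subgroup X := centralizer (commutator X : Set X)
    have hAC : zpowers a ≤ C := by
      intro y hy
      rw [mem_centralizer_iff]
      intro h hh
      exact hAA _ _ (hcomm hh) hy
    have hCne : C ≠ ⊤ := by
      intro h
      have hxC : x ∈ C := by rw [h]; exact mem_top x
      exact hx ((mem_centralizer_iff.1 hxC) d hd)
    refine ⟨C ⊔ frattini X, le_sup_right, ?_, ?_, ?_⟩
    · intro h
      have h1 : C ≤ frattini X := by
        rw [← h]
        exact le_sup_left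
      exact hAle (hAC.trans h1)
    · intro h
      exact hCne (frattini_nongenerating h)
    · intro σ y hy
      have : (C ⊔ frattini X).Characteristic := inferInstance
      exact (Cfsg.Agent.Lib.PGroups.MetacyclicAut.char_mem σ).2 hy


open Cfsg.Agent.Lib.Fusion.SmallEssential in
/-- `p'`-groups of automorphisms of a nonabelian metacyclic `p`-group, `p` odd. -/
theorem aut_facts_of_nonabelian (hp2 : p ≠ 2) (hX : IsPGroup p X) (hm : Cfsg.IsMetacyclic X)
    (hnc : ∃ x y : X, x * y ≠ y * x) (H : Subgroup (MulAut X)) (hH : (Nat.card H).Coprime p) :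
    IsMulCommutative H ∧ ∀ h ∈ H, h ^ (p - 1) = 1 := by
  classical
  obtain ⟨M, hΦM, hMΦ, hMtop, hMinv⟩ := exists_invariant_max hp2 hX hm hnc
  let V := X ⧸ frattini X
  let mk : X →* V := QuotientGroup.mk' (frattini X)
  have hmk : Function.Surjective mk := QuotientGroup.mk'_surjective _
  have hVp : IsPGroup p V := hX.of_surjective mk hmk
  have hVc : ∀ u v : V, u * v = v * u := by
    intro u v
    obtain ⟨x, rfl⟩ := hmk u
    obtain ⟨y, rfl⟩ := hmk v
    rw [← map_mul, ← map_mul]
    apply (QuotientGroup.eq (s := frattini X)).2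
    have h1 : (x * y)⁻¹ * (y * x) = ⁅y⁻¹, x⁻¹⁆ := by
      rw [commutatorElement_def]
      group
    rw [h1]
    exact Cfsg.Agent.Lib.PGroups.Basic.commutator_le_frattini hX
      (commutator_mem_commutator (mem_top _) (mem_top _))
  have hVcard : Nat.card V ≤ p ^ 2 := Cfsg.Agent.Lib.H29.StrongMetaA.card_frat_le hX hm
  let L : Subgroup V := M.map mk
  have hmem : ∀ x, mk x ∈ L ↔ x ∈ M := by
    intro x
    constructor
    · rintro ⟨y, hy, hyx⟩
      have h1 : y⁻¹ * x ∈ frattini X := (QuotientGroup.eq (s := frattini X)).1 hyx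
      have h2 : x = y * (y⁻¹ * x) := by group
      rw [h2]
      exact M.mul_mem hy (hΦM h1)
    · intro hx
      exact ⟨x, hx, rfl⟩
  have hLbot : L ≠ ⊥ := by
    intro h
    apply hMΦ
    apply le_antisymm _ hΦM
    intro x hx
    have h1 : mk x ∈ L := (hmem x).2 hx
    rw [h, mem_bot] at h1
    exact (QuotientGroup.eq_one_iff x).1 h1
  have hLtop : L ≠ ⊤ := by
    intro h
    apply hMtop
    rw [eq_top_iff]
    intro x _
    apply (hmem x).1
    rw [h]
    exact mem_top _
  haveI hLn : L.Normal := by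
    constructor
    intro n hn g
    rw [hVc g n, mul_inv_cancel_right]
    exact hn
  -- the orders
  have hLp : IsPGroup p L := hVp.to_subgroup L
  have hQp : IsPGroup p (V ⧸ L) := hVp.of_surjective (QuotientGroup.mk' L) (QuotientGroup.mk'_surjective _)
  obtain ⟨i, hi⟩ := IsPGroup.iff_card.1 hLp
  obtain ⟨i', hi'⟩ := IsPGroup.iff_card.1 hQp
  have hprod : Nat.card L * Nat.card (V ⧸ L) = Nat.card V := Subgroup.card_mul_index L
  have hi0 : i ≠ 0 := by
    rintro rfl
    apply hLbot
    rw [pow_zero] at hi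
    exact (Subgroup.card_eq_one.1 hi)
  have hi'0 : i' ≠ 0 := by
    rintro rfl
    apply hLtop
    rw [pow_zero] at hi'
    exact Subgroup.index_eq_one.1 hi'
  have hsum : i + i' ≤ 2 := by
    rw [hi, hi', ← pow_add] at hprod
    rw [← hprod] at hVcard
    exact (Nat.pow_le_pow_iff_right hp.out.one_lt).1 hVcard
  have hi1 : i = 1 := by omega
  have hi'1 : i' = 1 := by omega
  subst hi1
  subst hi'1
  rw [pow_one] at hi hi'
  -- the chain
  let W : ℕ → Subgroup V := fun j => if j = 0 then ⊤ else if j = 1 then L else ⊥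
  have hW0 : W 0 = ⊤ := rfl
  have hW1 : W 1 = L := rfl
  have hW2 : ∀ j, 2 ≤ j → W j = ⊥ := by
    intro j hj
    show (if j = 0 then ⊤ else if j = 1 then L else ⊥) = ⊥
    rw [if_neg (by omega), if_neg (by omega)]
  have hWn : ∀ j, (W j).Normal := by
    intro j
    constructor
    intro n hn g
    rw [hVc g n, mul_inv_cancel_right]
    exact hn
  have hcyc : ∀ j, j < 2 → ∃ u ∈ W j, ∀ y ∈ W j, ∃ m : ℕ, y * (u ^ m)⁻¹ ∈ W (j + 1) := by
    intro j hj
    interval_cases j
    · obtain ⟨u, hu⟩ : ∃ u : V, u ∉ L := by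
        by_contra hcon
        push Not at hcon
        apply hLtop
        rw [eq_top_iff]
        exact fun u _ => hcon u
      refine ⟨u, mem_top u, fun y _ => ?_⟩
      haveI : Fact p.Prime := hp
      have hu1 : ((u : V) : V ⧸ L) ≠ 1 := fun h => hu ((QuotientGroup.eq_one_iff u).1 h)
      have htop := zpowers_eq_top_of_prime_card (G := V ⧸ L) hi' hu1
      have hy : ((y : V) : V ⧸ L) ∈ zpowers ((u : V) : V ⧸ L) := by
        rw [htop]
        exact mem_top _
      obtain ⟨m, hm⟩ := Cfsg.Agent.Lib.Metacyclic.Basic.exists_natPow_of_mem_zpowers hy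
      refine ⟨m, ?_⟩
      rw [hW1]
      apply (QuotientGroup.eq_one_iff (N := L) _).1
      rw [QuotientGroup.mk_mul, QuotientGroup.mk_inv, QuotientGroup.mk_pow, hm, mul_inv_cancel]
    · obtain ⟨u, hu, hu1⟩ : ∃ u ∈ L, u ≠ 1 := by
        by_contra hcon
        push Not at hcon
        apply hLbot
        rw [eq_bot_iff]
        intro u hu
        exact hcon u hu
      rw [hW1]
      refine ⟨u, hu, fun y hy => ?_⟩
      have hu1' : (⟨u, hu⟩ : L) ≠ 1 := fun h => hu1 (congrArg Subtype.val h)
      have htop := zpowers_eq_top_of_prime_card (G := L) hi hu1'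
      have hy' : (⟨y, hy⟩ : L) ∈ zpowers (⟨u, hu⟩ : L) := by
        rw [htop]
        exact mem_top _
      obtain ⟨m, hm⟩ := Cfsg.Agent.Lib.Metacyclic.Basic.exists_natPow_of_mem_zpowers hy'
      refine ⟨m, ?_⟩
      have h1 : y = u ^ m := congrArg Subtype.val hm
      have h2 : W 2 = ⊥ := hW2 2 le_rfl
      show y * (u ^ m)⁻¹ ∈ W 2
      rw [h2, h1, mul_inv_cancel]
      exact one_mem _
  let fh : MulAut X →* MulAut V := fratHom (V := X)
  let H' : Subgroup (MulAut V) := H.map fh
  haveI : Finite (MulAut X) := Finite.of_injective (fun e : MulAut X => (e : X → X)) DFunLike.coe_injective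
  have hH' : (Nat.card H').Coprime p := by
    have h1 : Nat.card H' ∣ Nat.card H := Subgroup.card_map_dvd _ _
    exact Nat.Coprime.coprime_dvd_left h1 hH
  have hinv : ∀ ρ ∈ H', ∀ j, ∀ x ∈ W j, ρ x ∈ W j := by
    rintro _ ⟨σ, hσ, rfl⟩ j x hx
    by_cases hj0 : j = 0
    · subst hj0
      exact mem_top _
    by_cases hj1 : j = 1
    · subst hj1
      rw [hW1] at hx ⊢
      obtain ⟨m, hm, rfl⟩ := hx
      exact ⟨σ m, hMinv σ m hm, rfl⟩
    · have h2 : W j = ⊥ := hW2 j (by omega)
      rw [h2, mem_bot] at hx ⊢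
      rw [hx, map_one]
  obtain ⟨hab, hexp⟩ := Cfsg.Agent.Lib.Fusion.Supersoluble.chain_aut_facts hVp W 2 hW0 hW2 hWn hcyc H' hH' hinv
  have hord : ∀ τ ∈ H, (orderOf τ).Coprime p := by
    intro τ hτ
    have h1 : orderOf (⟨τ, hτ⟩ : H) = orderOf τ := Subgroup.orderOf_mk τ hτ
    rw [← h1]
    exact Nat.Coprime.coprime_dvd_left (orderOf_dvd_natCard _) hH
  refine ⟨⟨⟨fun a b => Subtype.ext ?_⟩⟩, fun h hh => ?_⟩
  · have h1 : ((a : MulAut X) * b * (a : MulAut X)⁻¹ * (b : MulAut X)⁻¹) = 1 := by
      apply eq_one_of_fratHom hX _ (hord _ (H.mul_mem (H.mul_mem (H.mul_mem a.2 b.2) (H.inv_mem a.2)) (H.inv_mem b.2)))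
      have h2 := hab (fh a) ⟨a, a.2, rfl⟩ (fh b) ⟨b, b.2, rfl⟩
      show fh _ = 1
      rw [map_mul, map_mul, map_mul, map_inv, map_inv, h2]
      group
    have h3 : ((a : MulAut X) * b * (a : MulAut X)⁻¹) = b := mul_inv_eq_one.1 h1
    exact mul_inv_eq_iff_eq_mul.1 h3
  · apply eq_one_of_fratHom hX _ (hord _ (H.pow_mem hh _))
    show fh _ = 1
    rw [map_pow]
    exact hexp (fh h) ⟨h, hh, rfl⟩

end Cfsg.Agent.Lib.H29.MetaSuperA
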