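import Cfsg.Agent.Lib.QuadAct.PStable
import Cfsg.Agent.Lib.QuadAct.ZJ
import Cfsg.Agent.Lib.Components.FrattiniQuot
import Cfsg.Agent.Lib.Solvable.Fitting
import Cfsg.Agent.Lib.Core.Residual
import Cfsg.Agent.Lib.Core.PSolvable2
import Cfsg.Agent.Lib.PLocal.ZJ

/-!
# Quadratic action on the Fitting subgroup, `p ≥ 5`

If `G` is a finite solvable group, `p ≥ 5` and `x` is a `p`-element with `[F(G), x, x] = 1`, then
`x ∈ O_p(G)`.
-/

set_option autoImplicit false
set_option linter.unusedSectionVars false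

open scoped commutatorElement Pointwise

namespace Cfsg.Agent.Lib.H29.QuadFitting

open Cfsg.Agent.Lib.Core.Basic Cfsg.Agent.Lib.Components.FrattiniQuot
open Subgroup Cfsg

universe u

variable {G : Type u} [Group G] [Finite G] {p : ℕ} [Fact p.Prime]

/-- Conjugating by a power of `x` when `[e, x]` commutes with `x`. -/
theorem pow_conj_of_commute {x e : G} (h : Commute ⁅e, x⁆ x) (n : ℕ) :
    x ^ n * e * (x ^ n)⁻¹ = (⁅e, x⁆⁻¹) ^ n * e := by
  have hb : x * e * x⁻¹ = ⁅e, x⁆⁻¹ * e := by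
    simp [commutatorElement_def, mul_assoc]
  have hc : Commute (⁅e, x⁆⁻¹) x := h.inv_left
  induction n with
  | zero => simp
  | succ n ih =>
    have h1 : x ^ (n + 1) * e * (x ^ (n + 1))⁻¹ = x * (x ^ n * e * (x ^ n)⁻¹) * x⁻¹ := by
      rw [pow_succ' x n]; group
    rw [h1, ih]
    have h2 : x * ((⁅e, x⁆⁻¹) ^ n * e) * x⁻¹ = (⁅e, x⁆⁻¹) ^ n * (x * e * x⁻¹) := by
      have h3 : x * (⁅e, x⁆⁻¹) ^ n = (⁅e, x⁆⁻¹) ^ n * x := ((hc.pow_left n).eq).symm
      calc x * ((⁅e, x⁆⁻¹) ^ n * e) * x⁻¹ = (x * (⁅e, x⁆⁻¹) ^ n) * e * x⁻¹ := by group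
        _ = (⁅e, x⁆⁻¹) ^ n * (x * e * x⁻¹) := by rw [h3]; group
    rw [h2, hb, pow_succ]
    group

theorem commutator_pow_of_commute {x e : G} (h : Commute ⁅e, x⁆ x) (n : ℕ) :
    ⁅e, x ^ n⁆ = ⁅e, x⁆ ^ n := by
  have h1 := pow_conj_of_commute h n
  have h2 : x ^ n * e⁻¹ * (x ^ n)⁻¹ = (x ^ n * e * (x ^ n)⁻¹)⁻¹ := by group
  calc ⁅e, x ^ n⁆ = e * (x ^ n * e⁻¹ * (x ^ n)⁻¹) := by
        simp [commutatorElement_def, mul_assoc]
    _ = ⁅e, x⁆ ^ n := by
        rw [h2, h1, mul_inv_rev, ← mul_assoc, mul_inv_cancel, one_mul, inv_pow, inv_inv]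

/-- From the elementwise quadratic condition to the subgroup one. -/
theorem commutator_zpowers_eq_bot {x : G} {P : Subgroup G}
    (h : ∀ e ∈ P, Commute ⁅e, x⁆ x) : ⁅⁅P, zpowers x⁆, zpowers x⁆ = ⊥ := by
  rw [Subgroup.commutator_eq_bot_iff_le_centralizer]
  rw [Subgroup.commutator_le]
  intro e he y hy
  rw [← mem_powers_iff_mem_zpowers] at hy
  obtain ⟨n, rfl⟩ := hy
  rw [Subgroup.mem_centralizer_iff]
  intro z hz
  rw [SetLike.mem_coe, ← mem_powers_iff_mem_zpowers] at hz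
  obtain ⟨m, rfl⟩ := hz
  simp only
  rw [commutator_pow_of_commute (h e he) n]
  exact (((h e he).pow_left n).pow_right m).symm.eq

/-- A coprime automorphism acting quadratically on a normal subgroup centralizes it. -/
theorem commute_of_quadratic {W : Subgroup G} (hW : W.Normal) {x : G} {k : ℕ} (hk : x ^ p ^ k = 1)
    (hcop : (Nat.card W).Coprime p) {w : G} (hw : w ∈ W) (h : Commute ⁅w, x⁆ x) : Commute x w := by
  have h1 := pow_conj_of_commute h (p ^ k)
  rw [hk] at h1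
  have h2 : (⁅w, x⁆⁻¹) ^ p ^ k = 1 := by
    have : (1 : G) * w * 1⁻¹ = (⁅w, x⁆⁻¹) ^ p ^ k * w := h1
    simpa using this.symm
  have hc : ⁅w, x⁆ ∈ W := by
    have : w * (x * w⁻¹ * x⁻¹) ∈ W := W.mul_mem hw (hW.conj_mem _ (W.inv_mem hw) x)
    convert this using 1
    simp [commutatorElement_def, mul_assoc]
  have h3 : (⁅w, x⁆) ^ p ^ k = 1 := by
    rw [inv_pow, inv_eq_one] at h2
    exact h2
  have h4 : orderOf (⟨⁅w, x⁆, hc⟩ : W) ∣ Nat.card W := orderOf_dvd_natCard _
  have h5 : orderOf (⟨⁅w, x⁆, hc⟩ : W) ∣ p ^ k := by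
    apply orderOf_dvd_of_pow_eq_one
    apply Subtype.ext
    simpa using h3
  have h6 := Nat.eq_one_of_dvd_coprimes (Nat.Coprime.pow_right k hcop) h4 h5
  have h7 : (⟨⁅w, x⁆, hc⟩ : W) = 1 := orderOf_eq_one_iff.mp h6
  have h8 : ⁅w, x⁆ = 1 := congrArg Subtype.val h7
  exact (commutatorElement_eq_one_iff_commute.mp h8).symm

/-- A `p'`-element in the kernel of the action on `P/Φ(P)` centralizes `P`. -/
theorem commute_of_sectionKernel (P Φ : Subgroup G) [Φ.Normal] [hPn : P.Normal]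
    (hΦ : Φ = (frattini ↥P).map P.subtype) (hpP : IsPGroup p P)
    {x : G} (hx : x ∈ Cfsg.sectionKernel P Φ)
    (hcop : (orderOf x).Coprime p) : x ∈ Subgroup.centralizer (P : Set G) := by
  have hcomm : ∀ y ∈ Cfsg.sectionKernel P Φ, ∀ k ∈ P, ⁅k, y⁆ ∈ Φ := by
    intro y hy k hk
    have h1 : (QuotientGroup.mk' Φ y) ∈ Subgroup.centralizer
        ((P.map (QuotientGroup.mk' Φ) : Subgroup (G ⧸ Φ)) : Set (G ⧸ Φ)) := hy
    have h2 := Subgroup.mem_centralizer_iff.mp h1 _ (Subgroup.mem_map_of_mem _ hk)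
    rw [← QuotientGroup.ker_mk' Φ, MonoidHom.mem_ker, map_commutatorElement,
      commutatorElement_eq_one_iff_mul_comm]
    exact h2
  set A := Subgroup.zpowers x with hA
  have hAK : A ≤ Cfsg.sectionKernel P Φ := by
    rw [hA, Subgroup.zpowers_le]; exact hx
  have hAN : A ≤ Subgroup.normalizer (P : Set G) := by
    rw [Subgroup.normalizer_eq_top_iff.mpr hPn]; exact le_top
  obtain ⟨n, hn⟩ := (IsPGroup.iff_card (p := p)).mp hpP
  have hcard : (Nat.card A).Coprime (Nat.card P) := by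
    rw [hA, Nat.card_zpowers, hn]
    exact Nat.Coprime.pow_right _ hcop
  have hsolv : Group.IsSolvable A ∨ Group.IsSolvable P := by
    left
    have : IsMulCommutative A := by rw [hA]; infer_instance
    infer_instance
  have h1 := Cfsg.Agent.Lib.Coprime.Action.commutator_sup_fixed hAN hcard hsolv
  have h2 : ⁅P, A⁆ ≤ Φ := by
    rw [Subgroup.commutator_le]
    exact fun k hk a ha => hcomm a (hAK ha) k hk
  have h3 : (P ⊓ Subgroup.centralizer (A : Set G)) ⊔ (frattini ↥P).map P.subtype = P := by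
    rw [← hΦ]
    apply le_antisymm
    · refine sup_le inf_le_left ?_
      rw [hΦ]
      exact Subgroup.map_subtype_le _
    · calc P = ⁅P, A⁆ ⊔ (P ⊓ Subgroup.centralizer (A : Set G)) := h1.symm
        _ ≤ Φ ⊔ (P ⊓ Subgroup.centralizer (A : Set G)) := sup_le_sup_right h2 _
        _ = _ := sup_comm _ _
  have h4 := Cfsg.Agent.Lib.QuadAct.ZJ.eq_of_sup_frattini P _ h3 inf_le_left
  refine Subgroup.mem_centralizer_iff.mpr fun k hk => ?_
  have hk' : k ∈ P ⊓ Subgroup.centralizer (A : Set G) := by rw [h4]; exact hk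
  exact (Subgroup.mem_centralizer_iff.mp hk'.2 x (Subgroup.mem_zpowers x)).symm

theorem mem_of_relIndex {K D : Subgroup G} [K.Normal] (hle : K ≤ D) {k : ℕ}
    (h : K.relIndex D = p ^ k) {y : G} (hy : y ∈ D) (hcop : (orderOf y).Coprime p) : y ∈ K := by
  have : (K.subgroupOf D).Normal := inferInstance
  have h1 : (⟨y, hy⟩ : D) ^ (K.subgroupOf D).index ∈ K.subgroupOf D := Subgroup.pow_index_mem _ _
  rw [← Subgroup.relIndex, h, Subgroup.mem_subgroupOf] at h1
  have h2 : y ^ p ^ k ∈ K := by simpa using h1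
  have hc : (orderOf y).Coprime (p ^ k) := Nat.Coprime.pow_right _ hcop
  obtain ⟨m, hm⟩ := exists_pow_eq_self_of_coprime hc.symm
  rw [← hm]
  exact K.pow_mem h2 m

/-- **Main lemma**: if `G` is solvable, `p ≥ 5` and the `p`-element `x` acts quadratically on
`F(G)`, then `x ∈ O_p(G)`. -/
theorem mem_pCore_of_quadratic_fitting [Group.IsSolvable G] (hp : 5 ≤ p) {x : G} {k : ℕ}
    (hk : x ^ p ^ k = 1) (hq : ∀ e ∈ fittingSubgroup G, Commute ⁅e, x⁆ x) : x ∈ pCore p G := by
  have hWF : Rp p G ≤ fittingSubgroup G := Rp_le_fitting p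
  have hPF : pCore p G ≤ fittingSubgroup G := pCore_le_fittingSubgroup p
  have hcopW : (Nat.card (Rp p G)).Coprime p := by
    have h1 : Nat.card (Rp p G) ∣ Nat.card (pPrimeCore p G) :=
      Subgroup.card_dvd_of_le (Rp_le_pPrimeCore p)
    exact Nat.Coprime.coprime_dvd_left h1 pPrimeCore_coprime
  have hxW : ∀ w ∈ Rp p G, Commute x w := fun w hw =>
    commute_of_quadratic (Rp_normal p) hk hcopW hw (hq w (hWF hw))
  have hst := Cfsg.Agent.Lib.QuadAct.PStable.s0625 (G := G) hp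
    Cfsg.Agent.Lib.Core.PSolvable2.isPSolvable_of_isSolvable
  obtain ⟨D, hD, hKD, ⟨m, hm⟩, hxD⟩ := hst.2.1 x (by
    rw [commutator_zpowers_eq_bot (fun e he => hq e (hPF he))]; exact bot_le)
  set M : Subgroup G := centralizer (Rp p G : Set G) with hM
  have hMn : M.Normal := by
    rw [hM]
    infer_instance
  set L : Subgroup G := D ⊓ M with hL
  have hLn : L.Normal := by
    rw [hL]
    exact Subgroup.normal_inf_normal _ _
  have hKn := Cfsg.Agent.Lib.PLocal.ZJ.sectionKernel_normal (pCore p G)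
    ((frattini ↥(pCore p G)).map (pCore p G).subtype)
  -- `p'`-elements of `L` lie in `O_{p'}(F(G))`
  have key : ∀ y ∈ L, (orderOf y).Coprime p → y ∈ Rp p G := by
    intro y hy hcop
    have h1 := mem_of_relIndex hKD hm hy.1 hcop
    have h2 : y ∈ centralizer (pCore p G : Set G) :=
      commute_of_sectionKernel _ _ rfl pCore_isPGroup h1 hcop
    have h3 : y ∈ centralizer (fittingSubgroup G : Set G) := by
      rw [Subgroup.mem_centralizer_iff]
      intro e he
      obtain ⟨a, ha, b, hb, rfl⟩ := exists_decomp_fitting p he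
      have ha1 := Subgroup.mem_centralizer_iff.mp h2 a ha
      have hb1 := Subgroup.mem_centralizer_iff.mp hy.2 b hb
      rw [mul_assoc, hb1, ← mul_assoc, ha1, mul_assoc]
    have h4 := Cfsg.Agent.Lib.Solvable.Fitting.centralizer_fittingSubgroup_le h3
    obtain ⟨a, ha, b, hb, rfl⟩ := exists_decomp_fitting p h4
    have hab := commute_pCore_Rp p ha hb
    have h5 : a ^ orderOf (a * b) * b ^ orderOf (a * b) = 1 := by
      rw [← hab.mul_pow, pow_orderOf_eq_one]
    have h6 : a ^ orderOf (a * b) ∈ pCore p G ⊓ Rp p G := by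
      refine ⟨Subgroup.pow_mem _ ha _, ?_⟩
      rw [eq_inv_of_mul_eq_one_left h5]
      exact Subgroup.inv_mem _ (Subgroup.pow_mem _ hb _)
    rw [pCore_inf_Rp, Subgroup.mem_bot] at h6
    obtain ⟨n, hn⟩ := (IsPGroup.iff_orderOf.mp (pCore_isPGroup (p := p) (G := G)) ⟨a, ha⟩)
    have h7 : orderOf a = p ^ n := by simpa using hn
    have h8 : orderOf a ∣ orderOf (a * b) := orderOf_dvd_of_pow_eq_one h6
    have h9 : orderOf a = 1 := by
      rw [h7] at h8 ⊢
      exact Nat.eq_one_of_dvd_coprimes (Nat.Coprime.pow_right n hcop) h8 dvd_rfl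
    rw [orderOf_eq_one_iff.mp h9, one_mul]
    exact hb
  -- `L` is central-by-`p`
  have hxL : x ∈ L := ⟨hxD, Subgroup.mem_centralizer_iff.mpr fun w hw => (hxW w hw).eq.symm⟩
  have hcen : ∀ y ∈ L, (orderOf y).Coprime p → ∀ z ∈ L, Commute y z := by
    intro y hy hcop z hz
    have := Subgroup.mem_centralizer_iff.mp hz.2 y (key y hy hcop)
    exact this
  have hpq : IsPGroup p (↥L ⧸ Subgroup.center ↥L) := by
    intro q
    induction q using QuotientGroup.induction_on with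
    | H y =>
      obtain ⟨a, b, hab, -, ⟨n, hn⟩, hbc, -, hb⟩ :=
        Cfsg.Agent.Lib.Core.Residual.exists_pPart_pPrimePart p y (isOfFinOrder_of_finite y)
      have hb' : b ∈ center ↥L := by
        rw [Subgroup.mem_center_iff]
        intro z
        have hbL : (b : G) ∈ L := b.2
        have h1 : (orderOf (b : G)).Coprime p := by rwa [Subgroup.orderOf_coe]
        apply Subtype.ext
        exact (hcen _ hbL h1 _ z.2).eq.symm
      refine ⟨n, ?_⟩
      rw [← hab, QuotientGroup.mk_mul, (QuotientGroup.eq_one_iff b).mpr hb', mul_one,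
        ← QuotientGroup.mk_pow, hn]
      rfl
  have hLnil : Group.IsNilpotent ↥L := by
    have hq1 : Group.IsNilpotent (↥L ⧸ Subgroup.center ↥L) := hpq.isNilpotent
    exact Group.of_quotient_center_nilpotent hq1
  have hxF : x ∈ fittingSubgroup G := le_fittingSubgroup hLn hLnil hxL
  obtain ⟨a, ha, b, hb, rfl⟩ := exists_decomp_fitting p hxF
  have hab := commute_pCore_Rp p ha hb
  obtain ⟨n, hn⟩ := (IsPGroup.iff_orderOf.mp (pCore_isPGroup (p := p) (G := G)) ⟨a, ha⟩)
  have h7 : orderOf a = p ^ n := by simpa using hn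
  have h8 : a ^ p ^ (k + n) = 1 := by
    rw [pow_add, mul_comm, pow_mul, ← h7, pow_orderOf_eq_one, one_pow]
  have h9 : (a * b) ^ p ^ (k + n) = 1 := by
    rw [pow_add, pow_mul, hk, one_pow]
  rw [hab.mul_pow, h8, one_mul] at h9
  have h10 : orderOf b ∣ p ^ (k + n) := orderOf_dvd_of_pow_eq_one h9
  have h11 : orderOf b ∣ Nat.card (Rp p G) := by
    have := orderOf_dvd_natCard (⟨b, hb⟩ : Rp p G)
    simpa using this
  have h12 := Nat.eq_one_of_dvd_coprimes (Nat.Coprime.pow_right (k + n) hcopW) h11 h10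
  rw [orderOf_eq_one_iff.mp h12, mul_one]
  exact ha

end Cfsg.Agent.Lib.H29.QuadFitting
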