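import Cfsg.Agent.Lib.H29.QuadFitting
import Cfsg.Agent.Lib.Solvable.Hall
import Cfsg.Prelude

/-!
# Centralizers of SCN-subgroups of `F(H)`, `H` a Hall `π`-subgroup, `2, 3 ∉ π`
-/

set_option autoImplicit false
set_option linter.unusedSectionVars false

open scoped commutatorElement Pointwise

namespace Cfsg.Agent.Lib.H29.SCNCent

open Cfsg.Agent.Lib.Core.Basic Cfsg.Agent.Lib.Components.FrattiniQuot
open Cfsg.Agent.Lib.H29.QuadFitting
open Subgroup Cfsg

universe u

/-- A normal `π`-subgroup lies in every subgroup of `π'`-index. -/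
theorem normal_pi_le {X : Type*} [Group X] [Finite X] {π : Set ℕ} (T Y : Subgroup X) [T.Normal]
    (hT : ∀ q : ℕ, q.Prime → q ∣ Nat.card T → q ∈ π)
    (hY : ∀ q : ℕ, q.Prime → q ∈ π → ¬ q ∣ Y.index) : T ≤ Y := by
  have h1 := Cfsg.Agent.Lib.Solvable.Hall.card_sup_mul_card_inf Y T
  have h2 : Nat.card Y * Y.relIndex (Y ⊔ T) = Nat.card (Y ⊔ T : Subgroup X) := by
    have := Subgroup.relIndex_mul_relIndex (⊥ : Subgroup X) Y (Y ⊔ T) bot_le le_sup_left
    rwa [Subgroup.relIndex_bot_left, Subgroup.relIndex_bot_left] at this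
  have h3 : Y.relIndex (Y ⊔ T) ∣ Nat.card T := by
    have hY0 : 0 < Nat.card Y := Nat.card_pos
    have h4 : Y.relIndex (Y ⊔ T) * Nat.card (Y ⊓ T : Subgroup X) = Nat.card T := by
      apply Nat.eq_of_mul_eq_mul_left hY0
      rw [← h1, ← h2]; ring
    exact ⟨_, h4.symm⟩
  have h5 : Y.relIndex (Y ⊔ T) ∣ Y.index :=
    ⟨_, (Subgroup.relIndex_mul_index (le_sup_left : Y ≤ Y ⊔ T)).symm⟩
  by_cases hn : Y.relIndex (Y ⊔ T) = 1
  · have := Subgroup.relIndex_eq_one.mp hn
    exact le_trans le_sup_right this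
  · obtain ⟨q, hq, hqd⟩ := Nat.exists_prime_and_dvd hn
    exact absurd (hqd.trans h5) (hY q hq (hT q hq (hqd.trans h3)))

/-- The abstract form. -/
theorem mem_of_centralizer {G : Type*} [Group G] [Finite G] [Group.IsSolvable G]
    {p : ℕ} [Fact p.Prime] (hp : 5 ≤ p) {F₀ A : Subgroup G}
    (hF : fittingSubgroup G ≤ F₀) (hN : F₀ ≤ normalizer (A : Set G))
    (hC : F₀ ⊓ centralizer (A : Set G) = A) {x : G} (hx : x ∈ centralizer (A : Set G)) {k : ℕ}
    (hk : x ^ p ^ k = 1) : x ∈ A := by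
  have hq : ∀ e ∈ fittingSubgroup G, Commute ⁅e, x⁆ x := by
    intro e he
    have h1 : ⁅e, x⁆ ∈ fittingSubgroup G := by
      have : e * (x * e⁻¹ * x⁻¹) ∈ fittingSubgroup G :=
        mul_mem he (fittingSubgroup_normal'.conj_mem _ (inv_mem he) x)
      convert this using 1
      simp [commutatorElement_def, mul_assoc]
    have h2 : ⁅e, x⁆ ∈ centralizer (A : Set G) := by
      rw [Subgroup.mem_centralizer_iff]
      intro a ha
      have hen := hN (hF he)
      have ha1 : e⁻¹ * a * e ∈ A := by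
        have := (Subgroup.mem_normalizer_iff.mp (inv_mem hen) a).mp ha
        simpa using this
      have hxa : (e⁻¹ * a * e) * x = x * (e⁻¹ * a * e) :=
        Subgroup.mem_centralizer_iff.mp hx _ ha1
      have hax : Commute a x := (Subgroup.mem_centralizer_iff.mp hx a ha)
      have hax' : a * x⁻¹ = x⁻¹ * a := hax.inv_right.eq
      simp only [commutatorElement_def]
      calc a * (e * x * e⁻¹ * x⁻¹) = e * ((e⁻¹ * a * e) * x) * e⁻¹ * x⁻¹ := by group
        _ = e * (x * (e⁻¹ * a * e)) * e⁻¹ * x⁻¹ := by rw [hxa]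
        _ = e * x * e⁻¹ * (a * x⁻¹) := by group
        _ = e * x * e⁻¹ * (x⁻¹ * a) := by rw [hax']
        _ = e * x * e⁻¹ * x⁻¹ * a := by group
    have h3 : ⁅e, x⁆ ∈ A := by
      rw [← hC]
      exact ⟨hF h1, h2⟩
    exact (Subgroup.mem_centralizer_iff.mp hx _ h3)
  have h4 := mem_pCore_of_quadratic_fitting hp hk hq
  rw [← hC]
  exact ⟨hF (pCore_le_fittingSubgroup p h4), hx⟩

/-- Every `p`-element of `C_S(A)`, `p ∈ π`, lies in `A`. -/
theorem mem_of_hall {S : Type*} [Group S] [Finite S] [Group.IsSolvable S]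
    (π : Set ℕ) (h2 : 2 ∉ π) (h3 : 3 ∉ π) (H : Subgroup S) (hH : Cfsg.IsPiHall π H)
    (A : Subgroup S) (hA : Cfsg.IsSCN ((Cfsg.fittingSubgroup H).map H.subtype) A)
    {p : ℕ} [Fact p.Prime] (hpπ : p ∈ π) {x : S} (hx : x ∈ centralizer (A : Set S)) {k : ℕ}
    (hk : x ^ p ^ k = 1) : x ∈ A := by
  obtain ⟨hAF, hFN, hFC⟩ := hA
  set Fh := (Cfsg.fittingSubgroup H).map H.subtype with hFh
  have hFH : Fh ≤ H := Subgroup.map_subtype_le _
  have hp5 : 5 ≤ p := by
    have hpp : p.Prime := Fact.out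
    by_contra hlt
    have hp2 := hpp.two_le
    have : p = 2 ∨ p = 3 ∨ p = 4 := by omega
    rcases this with rfl | rfl | rfl
    · exact h2 hpπ
    · exact h3 hpπ
    · exact absurd hpp (by norm_num)
  set π' : Set ℕ := {q | q ∉ π} with hπ'
  set R := Cfsg.piCore π' S with hR
  have hRn : R.Normal := Cfsg.piCore_normal _ _
  have hRp : ∀ q : ℕ, q.Prime → q ∣ Nat.card R → q ∉ π := piCore_prop
  have hHp := hH.1
  have hcop : ∀ n : ℕ, (∀ q : ℕ, q.Prime → q ∣ n → q ∈ π) → (Nat.card R).Coprime n := by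
    intro n hn
    apply Nat.coprime_of_dvd
    intro q hq hq1 hq2
    exact hRp q hq hq1 (hn q hq hq2)
  have hRH : H ⊓ R = ⊥ := by
    rw [eq_bot_iff]
    intro y hy
    have h1 : orderOf y ∣ Nat.card R := by
      have := orderOf_dvd_natCard (⟨y, hy.2⟩ : R)
      simpa using this
    have h2' : orderOf y ∣ Nat.card H := by
      have := orderOf_dvd_natCard (⟨y, hy.1⟩ : H)
      simpa using this
    have := Nat.eq_one_of_dvd_coprimes (hcop _ hHp) h1 h2'
    rw [Subgroup.mem_bot]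
    exact orderOf_eq_one_iff.mp this
  set f := QuotientGroup.mk' R with hf
  have hfs : Function.Surjective f := QuotientGroup.mk'_surjective R
  have hfker : ∀ y, f y = 1 ↔ y ∈ R := fun y => QuotientGroup.eq_one_iff y
  -- `O_{π'}` of the quotient is trivial
  have hq0 : Cfsg.piCore π' (S ⧸ R) = ⊥ := piCore_quotient_eq_bot
  -- `F(S/R) ≤ f(H)`
  have hO : fittingSubgroup (S ⧸ R) ≤ H.map f := by
    rw [fittingSubgroup_eq_iSup_pCore]
    refine iSup_le fun q => ?_
    have hqp : Fact (q : ℕ).Prime := ⟨q.2⟩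
    by_cases hqπ : (q : ℕ) ∈ π
    · refine normal_pi_le (π := π) _ _ ?_ ?_
      · intro r hr hrd
        obtain ⟨n, hn⟩ := exists_card_pCore (p := (q : ℕ)) (G := S ⧸ R)
        rw [hn] at hrd
        have := (Nat.prime_dvd_prime_iff_eq hr q.2).mp (hr.dvd_of_dvd_pow hrd)
        rw [this]; exact hqπ
      · intro r hr hrπ hrd
        exact hH.2 r hr hrπ (hrd.trans (Subgroup.index_map_dvd H hfs))
    · have : Cfsg.pCore (q : ℕ) (S ⧸ R) ≤ Cfsg.piCore π' (S ⧸ R) := by
        refine le_piCore (pCore_normal _ _) ?_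
        intro r hr hrd
        obtain ⟨n, hn⟩ := exists_card_pCore (p := (q : ℕ)) (G := S ⧸ R)
        rw [hn] at hrd
        have := (Nat.prime_dvd_prime_iff_eq hr q.2).mp (hr.dvd_of_dvd_pow hrd)
        rw [this]; exact hqπ
      rw [hq0] at this
      exact le_trans this bot_le
  -- `F(S/R) ≤ f(F̂)`
  have hF0 : fittingSubgroup (S ⧸ R) ≤ Fh.map f := by
    intro e he
    obtain ⟨h, hh, rfl⟩ := hO he
    set T : Subgroup H := (fittingSubgroup (S ⧸ R)).comap (f.comp H.subtype) with hT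
    have hTn : T.Normal := by
      rw [hT]
      exact Subgroup.Normal.comap fittingSubgroup_normal' _
    let g : T →* fittingSubgroup (S ⧸ R) :=
      ((f.comp H.subtype).comp T.subtype).codRestrict _ (fun t => t.2)
    have hinj : Function.Injective g := by
      rw [injective_iff_map_eq_one]
      rintro ⟨⟨a, ha⟩, ha'⟩ hy
      have h1 : f a = 1 := congrArg Subtype.val hy
      have h2' : a ∈ H ⊓ R := ⟨ha, (hfker a).mp h1⟩
      rw [hRH, Subgroup.mem_bot] at h2'
      subst h2'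
      rfl
    have hTnil : Group.IsNilpotent T := by
      have := fittingSubgroup_isNilpotent (G := S ⧸ R)
      exact isNilpotent_of_injective g hinj
    have hTF : T ≤ fittingSubgroup H := le_fittingSubgroup hTn hTnil
    exact ⟨h, ⟨⟨h, hh⟩, hTF (by rw [hT]; exact he), rfl⟩, rfl⟩
  have hAH : A ≤ H := hAF.trans hFH
  have hAc : A ≤ centralizer (A : Set S) := by
    intro a ha
    have h : a ∈ Fh ⊓ centralizer (A : Set S) := hFC.symm.le ha
    exact h.2
  have hNorm : Fh.map f ≤ normalizer ((A.map f : Subgroup (S ⧸ R)) : Set (S ⧸ R)) := by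
    refine le_trans (Subgroup.map_mono hFN) ?_
    exact Subgroup.le_normalizer_map f
  have hCen : Fh.map f ⊓ centralizer ((A.map f : Subgroup (S ⧸ R)) : Set (S ⧸ R)) = A.map f := by
    apply le_antisymm
    · rintro _ ⟨⟨y, hy, rfl⟩, hc⟩
      refine ⟨y, ?_, rfl⟩
      rw [← hFC]
      refine ⟨hy, Subgroup.mem_centralizer_iff.mpr fun a ha => ?_⟩
      have hyn := hFN hy
      have h1 : y * a * y⁻¹ ∈ A := (Subgroup.mem_normalizer_iff.mp hyn a).mp ha
      have h2' : f a * f y = f y * f a :=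
        Subgroup.mem_centralizer_iff.mp hc (f a) (Subgroup.mem_map_of_mem f ha)
      have h3' : a⁻¹ * (y * a * y⁻¹) ∈ H ⊓ R := by
        refine Subgroup.mem_inf.mpr ⟨H.mul_mem (H.inv_mem (hAH ha)) (hAH h1), (hfker _).mp ?_⟩
        simp only [map_mul, map_inv]
        rw [← h2']; group
      rw [hRH, Subgroup.mem_bot] at h3'
      have h4' : y * a * y⁻¹ = a := by
        rw [inv_mul_eq_one] at h3'
        exact h3'.symm
      rw [mul_inv_eq_iff_eq_mul] at h4'
      exact h4'.symm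
    · rintro _ ⟨a, ha, rfl⟩
      refine ⟨Subgroup.mem_map_of_mem f (hAF ha), Subgroup.mem_centralizer_iff.mpr ?_⟩
      rintro _ ⟨b, hb, rfl⟩
      have := Subgroup.mem_centralizer_iff.mp (hAc ha) b hb
      rw [← map_mul, ← map_mul, this]
  have hfx : f x ∈ centralizer ((A.map f : Subgroup (S ⧸ R)) : Set (S ⧸ R)) := by
    refine Subgroup.mem_centralizer_iff.mpr ?_
    rintro _ ⟨b, hb, rfl⟩
    have := Subgroup.mem_centralizer_iff.mp hx b hb
    rw [← map_mul, ← map_mul, this]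
  obtain ⟨a, ha, hax⟩ := mem_of_centralizer hp5 hF0 hNorm hCen hfx (k := k) (by rw [← map_pow, hk, map_one])
  have hR1 : a⁻¹ * x ∈ R := by
    rw [← hfker, map_mul, map_inv, hax, inv_mul_cancel]
  have hcomm : Commute a x := (Subgroup.mem_centralizer_iff.mp hx a ha)
  have hpow : (a⁻¹ * x) ^ (Nat.card H * p ^ k) = 1 := by
    have h0 : a ^ Nat.card H = 1 := by
      have h00 : orderOf a ∣ Nat.card H := by
        have := orderOf_dvd_natCard (⟨a, hAH ha⟩ : H)
        simpa using this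
      exact orderOf_dvd_iff_pow_eq_one.mp h00
    have h1 : a ^ (Nat.card H * p ^ k) = 1 := by rw [pow_mul, h0, one_pow]
    have h2 : x ^ (Nat.card H * p ^ k) = 1 := by rw [mul_comm, pow_mul, hk, one_pow]
    rw [hcomm.inv_left.mul_pow, inv_pow, h1, h2]
    simp
  have h1 : orderOf (a⁻¹ * x) ∣ Nat.card R := by
    have := orderOf_dvd_natCard (⟨a⁻¹ * x, hR1⟩ : R)
    simpa using this
  have h2' : orderOf (a⁻¹ * x) ∣ Nat.card H * p ^ k := orderOf_dvd_of_pow_eq_one hpow
  have hc3 : (Nat.card R).Coprime (Nat.card H * p ^ k) := by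
    apply hcop
    intro q hq hqd
    rcases (Nat.Prime.dvd_mul hq).mp hqd with h | h
    · exact hHp q hq h
    · have hpp : p.Prime := Fact.out
      have := (Nat.prime_dvd_prime_iff_eq hq hpp).mp (hq.dvd_of_dvd_pow h)
      rw [this]; exact hpπ
  have h4 := orderOf_eq_one_iff.mp (Nat.eq_one_of_dvd_coprimes hc3 h1 h2')
  rw [inv_mul_eq_one] at h4
  rw [← h4]
  exact ha

end Cfsg.Agent.Lib.H29.SCNCent
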