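import Cfsg.Agent.Lib.H29.W4E
import Cfsg.Agent.S5317
import Cfsg.Agent.Lib.SpWreath.Tower
import Cfsg.Agent.Lib.Classical.SL2.Order4
import Cfsg.Prelude.Def_Classical

/-!
# The wreath-product configuration in `Sp₄(F)`
-/

set_option autoImplicit false

namespace Cfsg.Agent.Lib.H29.Sp4Inst

open Matrix
open scoped MatrixGroups

variable {F : Type*} [Field F]

/-- The index type. -/
abbrev I4 := Fin 2 ⊕ Fin 2

/-- The `2 × 2` matrices. -/
abbrev M2 (F : Type*) := Matrix (Fin 2) (Fin 2) F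

/-- The permutation of the indices separating the hyperbolic pairs. -/
def ε : I4 ≃ I4 where
  toFun := Sum.elim ![Sum.inl 0, Sum.inr 0] ![Sum.inl 1, Sum.inr 1]
  invFun := Sum.elim ![Sum.inl 0, Sum.inr 0] ![Sum.inl 1, Sum.inr 1]
  left_inv := by
    rintro (i | i) <;> fin_cases i <;> rfl
  right_inv := by
    rintro (i | i) <;> fin_cases i <;> rfl

/-- Block matrices. -/
def blk (A B C D : M2 F) : Matrix I4 I4 F := (fromBlocks A B C D).submatrix ε ε

lemma blk_mul (A B C D A' B' C' D' : M2 F) : blk A B C D * blk A' B' C' D' =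
    blk (A * A' + B * C') (A * B' + B * D') (C * A' + D * C') (C * B' + D * D') := by
  rw [blk, blk, Matrix.submatrix_mul_equiv, fromBlocks_multiply]
  rfl

lemma blk_one : blk (1 : M2 F) 0 0 1 = 1 := by
  rw [blk, fromBlocks_one, Matrix.submatrix_one_equiv]

lemma blk_transpose (A B C D : M2 F) : (blk A B C D)ᵀ = blk Aᵀ Cᵀ Bᵀ Dᵀ := by
  rw [blk, blk, Matrix.transpose_submatrix, fromBlocks_transpose]

lemma blk_inj {A B C D A' B' C' D' : M2 F} (h : blk A B C D = blk A' B' C' D') :
    A = A' ∧ B = B' ∧ C = C' ∧ D = D' := by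
  have h1 : fromBlocks A B C D = fromBlocks A' B' C' D' := by
    have := congrArg (fun M => M.submatrix ε.symm ε.symm) h
    simpa [blk] using this
  exact fromBlocks_inj.mp h1

lemma exists_blk (M : Matrix I4 I4 F) : ∃ A B C D, M = blk A B C D := by
  refine ⟨(M.submatrix ε.symm ε.symm).toBlocks₁₁, (M.submatrix ε.symm ε.symm).toBlocks₁₂,
    (M.submatrix ε.symm ε.symm).toBlocks₂₁, (M.submatrix ε.symm ε.symm).toBlocks₂₂, ?_⟩
  rw [blk, fromBlocks_toBlocks]
  simp

/-- The `2 × 2` form. -/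
def Ω (F : Type*) [Field F] : M2 F := !![0, -1; 1, 0]

lemma J_eq : J (Fin 2) F = blk (Ω F) 0 0 (Ω F) := by
  ext (i | i) (j | j) <;> fin_cases i <;> fin_cases j <;>
    simp [J, blk, ε, Ω, Matrix.one_apply]

lemma omega_conj (X : M2 F) : X * Ω F * Xᵀ = X.det • Ω F := by
  ext i j
  fin_cases i <;> fin_cases j <;>
    simp [Matrix.mul_apply, Fin.sum_univ_two, Matrix.det_fin_two, Ω] <;> ring

lemma mem_blk_iff (A B C D : M2 F) : blk A B C D ∈ symplecticGroup (Fin 2) F ↔
    blk (A * Ω F * Aᵀ + B * Ω F * Bᵀ) (A * Ω F * Cᵀ + B * Ω F * Dᵀ) (C * Ω F * Aᵀ + D * Ω F * Bᵀ)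
      (C * Ω F * Cᵀ + D * Ω F * Dᵀ) = blk (Ω F) 0 0 (Ω F) := by
  rw [SymplecticGroup.mem_iff, J_eq, blk_mul, blk_transpose, blk_mul]
  simp only [mul_zero, zero_mul, add_zero, zero_add]

/-- The diagonal embedding of the blocks. -/
def thM (a b : SL(2, F)) : Matrix I4 I4 F := blk (a : M2 F) 0 0 (b : M2 F)

lemma thM_mem (a b : SL(2, F)) : thM a b ∈ symplecticGroup (Fin 2) F := by
  rw [thM, mem_blk_iff]
  simp [omega_conj, a.2, b.2]

/-- The map `SL₂ × SL₂ → Sp₄`. -/
def th (a b : SL(2, F)) : symplecticGroup (Fin 2) F := ⟨thM a b, thM_mem a b⟩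

lemma coe_th (a b : SL(2, F)) : ((th a b : symplecticGroup (Fin 2) F) : Matrix I4 I4 F) = blk (a : M2 F) 0 0 (b : M2 F) := rfl

lemma th_mul (a b c d : SL(2, F)) : th a b * th c d = th (a * c) (b * d) := by
  apply Subtype.ext
  show blk _ _ _ _ * blk _ _ _ _ = blk _ _ _ _
  rw [blk_mul]
  simp

lemma th_inj (a b c d : SL(2, F)) (h : th a b = th c d) : a = c ∧ b = d := by
  have h1 := blk_inj (congrArg Subtype.val h)
  exact ⟨Subtype.ext h1.1, Subtype.ext h1.2.2.2⟩

lemma σM_mem : blk (0 : M2 F) 1 1 0 ∈ symplecticGroup (Fin 2) F := by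
  rw [mem_blk_iff]
  simp

/-- The swap. -/
def σ : symplecticGroup (Fin 2) F := ⟨blk (0 : M2 F) 1 1 0, σM_mem⟩

lemma coe_σ : ((σ : symplecticGroup (Fin 2) F) : Matrix I4 I4 F) = blk (0 : M2 F) 1 1 0 := rfl

lemma σσ : (σ : symplecticGroup (Fin 2) F) * σ = 1 := by
  apply Subtype.ext
  show blk _ _ _ _ * blk _ _ _ _ = (1 : Matrix I4 I4 F)
  rw [blk_mul, ← blk_one]
  simp

lemma σth (a b : SL(2, F)) : σ * th a b * σ = th b a := by
  apply Subtype.ext
  show blk _ _ _ _ * blk _ _ _ _ * blk _ _ _ _ = blk _ _ _ _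
  rw [blk_mul, blk_mul]
  simp

lemma σ_ne (a b : SL(2, F)) : (σ : symplecticGroup (Fin 2) F) ≠ th a b := by
  intro h
  have h1 := blk_inj (congrArg Subtype.val h)
  have h2 := h1.2.1
  have h3 := congrFun (congrFun h2 0) 0
  simp at h3

lemma coe_thσ (a b : SL(2, F)) : ((th a b * σ : symplecticGroup (Fin 2) F) : Matrix I4 I4 F) =
    blk (0 : M2 F) (a : M2 F) (b : M2 F) 0 := by
  show blk _ _ _ _ * blk _ _ _ _ = _
  rw [blk_mul]
  simp

section T

variable (t : F) (I : M2 F)

/-- `α`. -/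
def α : M2 F := t • (1 + I)

/-- `β`. -/
def β : M2 F := t • (1 - I)

variable {t I}

lemma det_α (ht : 2 * t = 1) (htr : I 1 1 = - I 0 0) (hdet : I.det = 1) : (α t I).det = t := by
  rw [Matrix.det_fin_two] at hdet ⊢
  simp only [α, Matrix.smul_apply, Matrix.add_apply, Matrix.one_apply_eq, smul_eq_mul,
    Matrix.one_apply_ne (show (0 : Fin 2) ≠ 1 by decide), Matrix.one_apply_ne (show (1 : Fin 2) ≠ 0 by decide)]
  rw [htr] at hdet ⊢
  linear_combination (t * t) * hdet + t * ht

lemma det_β (ht : 2 * t = 1) (htr : I 1 1 = - I 0 0) (hdet : I.det = 1) : (β t I).det = t := by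
  rw [Matrix.det_fin_two] at hdet ⊢
  simp only [β, Matrix.smul_apply, Matrix.sub_apply, Matrix.one_apply_eq, smul_eq_mul,
    Matrix.one_apply_ne (show (0 : Fin 2) ≠ 1 by decide), Matrix.one_apply_ne (show (1 : Fin 2) ≠ 0 by decide)]
  rw [htr] at hdet ⊢
  linear_combination (t * t) * hdet + t * ht

lemma I_β (hI : I * I = -1) : I * β t I = α t I := by
  rw [α, β, Matrix.mul_smul, mul_sub, mul_one, hI, sub_neg_eq_add, add_comm]

lemma I_α (hI : I * I = -1) : I * α t I = - β t I := by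
  rw [α, β, Matrix.mul_smul, mul_add, mul_one, hI, ← smul_neg, neg_sub, sub_eq_add_neg]

lemma β_I (hI : I * I = -1) : β t I * I = α t I := by
  rw [α, β, Matrix.smul_mul, sub_mul, one_mul, hI, sub_neg_eq_add, add_comm]

lemma α_I (hI : I * I = -1) : α t I * I = - β t I := by
  rw [α, β, Matrix.smul_mul, add_mul, one_mul, hI, ← smul_neg, neg_sub, sub_eq_add_neg]

lemma α_J {Y : M2 F} (h : Y * I = -(I * Y)) : α t I * Y = Y * β t I := by
  rw [α, β, Matrix.smul_mul, Matrix.mul_smul, add_mul, mul_sub, one_mul, mul_one, h, sub_neg_eq_add]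

lemma β_J {Y : M2 F} (h : Y * I = -(I * Y)) : β t I * Y = Y * α t I := by
  rw [α, β, Matrix.smul_mul, Matrix.mul_smul, sub_mul, mul_add, one_mul, mul_one, h, sub_eq_add_neg]

/-- The matrix `T`. -/
def TM (t : F) (I : M2 F) : Matrix I4 I4 F := blk (α t I) (- α t I) (β t I) (β t I)

lemma TM_mem (ht : 2 * t = 1) (htr : I 1 1 = - I 0 0) (hdet : I.det = 1) :
    TM t I ∈ symplecticGroup (Fin 2) F := by
  rw [TM, mem_blk_iff]
  have h1 : (α t I) * Ω F * (α t I)ᵀ = t • Ω F := by rw [omega_conj, det_α ht htr hdet]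
  have h2 : (β t I) * Ω F * (β t I)ᵀ = t • Ω F := by rw [omega_conj, det_β ht htr hdet]
  have h3 : t • Ω F + t • Ω F = Ω F := by
    rw [← add_smul, ← two_mul, ht, one_smul]
  simp only [Matrix.transpose_neg, neg_mul, mul_neg, neg_neg, h1, h2, h3, add_neg_cancel, neg_add_cancel]

lemma T_σ : TM t I * blk 0 1 1 0 = blk (-1) 0 0 1 * TM t I := by
  rw [TM, blk_mul, blk_mul]
  simp

lemma T_z (hI : I * I = -1) : TM t I * blk (-1) 0 0 1 = blk 0 (-I) I 0 * TM t I := by
  rw [TM, blk_mul, blk_mul]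
  simp [I_α hI, I_β hI]

lemma T_γ (hI : I * I = -1) : TM t I * blk 0 (-I) I 0 = blk 0 1 1 0 * TM t I := by
  rw [TM, blk_mul, blk_mul]
  simp [α_I hI, β_I hI]

lemma T_J {Y : M2 F} (h : Y * I = -(I * Y)) : TM t I * blk 0 (-Y) Y 0 = blk 0 (-Y) Y 0 * TM t I := by
  rw [TM, blk_mul, blk_mul]
  simp [α_J h, β_J h]

end T

lemma blk_neg_one : blk (-1 : M2 F) 0 0 (-1) = -1 := by
  have : blk (-1 : M2 F) 0 0 (-1) = -(blk 1 0 0 1) := by
    ext i j
    simp only [blk, Matrix.submatrix_apply, Matrix.neg_apply]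
    rcases ε i with a | a <;> rcases ε j with b | b <;> simp
  rw [this, blk_one]

section inst

variable [Fintype F]

open Cfsg.Agent.Lib.H29.W4 Cfsg.Agent.Lib.SLn.QuatSylow

/-- The main theorem. -/
theorem main (hodd : Fintype.card F % 2 = 1) (R : Sylow 2 (Cfsg.PSp 2 F)) :
    (Cfsg.groupFusionSystem (R : Subgroup (Cfsg.PSp 2 F))).IsSimple 2 := by
  have hF : Odd (Fintype.card F) := Nat.odd_iff.mpr hodd
  obtain ⟨D, hD, h3, h2'⟩ := Cfsg.Agent.S2431.exists_data hF
  have h2 : (2 : F) ≠ 0 := Cfsg.Agent.S5317.two_ne hF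
  obtain ⟨t, ht⟩ : ∃ t : F, 2 * t = 1 := ⟨2⁻¹, mul_inv_cancel₀ h2⟩
  have hyy : ((D.y * D.y : SL(2, F)) : M2 F) = -1 := Cfsg.Agent.S5317.yy_eq hF D
  have hy' : D.y * D.y = (-1 : SL(2, F)) := by
    apply Subtype.ext
    rw [hyy]
    rfl
  have hz : D.v = 2 → ∃ ζ : SL(2, F), ζ * D.a * ζ⁻¹ = D.y ∧ ζ * D.y * ζ⁻¹ = D.a * D.y ∧ ζ ^ 3 = 1 ∧ ζ ≠ 1 := by
    intro hv
    have hv' : D.y * D.y = D.a * D.a := by
      have := D.y2
      rw [hv] at this
      simpa [pow_two] using this
    have ha' : ((D.a * D.a : SL(2, F)) : M2 F) = -1 := by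
      rw [← hyy, hv']
    have hyy2 : ((D.y : SL(2, F)) : M2 F) * (D.y : SL(2, F)) = -1 := hyy
    obtain ⟨ζ, h4, h5, h6⟩ := Cfsg.Agent.S2431.exists_zeta h2 D.a D.y ha' hyy2 (D.inv _ D.aT)
    refine ⟨ζ, h4, h5, h6, ?_⟩
    rintro rfl
    apply D.yT
    rw [← h4]
    simpa using D.aT
  have hm2 : ∀ i : SL(2, F), i * i = D.y * D.y → ((i : SL(2, F)) : M2 F) * (i : SL(2, F)) = -1 := by
    intro i hi
    rw [← hyy, ← hi]
    rfl
  have hcoe : ∀ x : SL(2, F), ((D.y * D.y * x : SL(2, F)) : M2 F) = - (x : M2 F) := by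
    intro x
    rw [Matrix.SpecialLinearGroup.coe_mul, hyy, neg_one_mul]
  let W : Setup (symplecticGroup (Fin 2) F) (SL(2, F)) D :=
    { th := th
      th_mul := th_mul
      th_inj := th_inj
      σ := σ
      σσ := σσ
      σth := σth
      σ_ne := σ_ne
      m := D.y * D.y
      hm := rfl
      m_comm := by
        intro x
        apply Subtype.ext
        rw [Matrix.SpecialLinearGroup.coe_mul, hcoe, hyy, mul_neg_one]
      uniq := by
        intro g hg
        by_cases h1 : g = 1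
        · exact Or.inl h1
        · right
          apply Subtype.ext
          rw [hyy]
          exact Cfsg.Agent.S5317.eq_neg_one_of_sq hF h1 hg
      cen := by
        intro g
        apply Subtype.ext
        show (g : Matrix I4 I4 F) * blk _ 0 0 _ = blk _ 0 0 _ * (g : Matrix I4 I4 F)
        rw [hyy, blk_neg_one]
        simp
      cent := by
        intro g hg
        obtain ⟨A, B, C, E, hM⟩ := exists_blk (g : Matrix I4 I4 F)
        have hg' := congrArg Subtype.val hg
        have e1 : (g : Matrix I4 I4 F) * blk _ 0 0 _ = blk _ 0 0 _ * (g : Matrix I4 I4 F) := hg'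
        rw [hM, hyy, Matrix.SpecialLinearGroup.coe_one, blk_mul, blk_mul] at e1
        simp only [mul_neg, mul_one, mul_zero, add_zero, zero_add, neg_mul, one_mul, zero_mul] at e1
        obtain ⟨-, e2, e3, -⟩ := blk_inj e1
        have hB : B = 0 := by
          have : (2 : F) • B = 0 := by
            rw [two_smul]
            nth_rw 1 [e2]
            simp
          exact (smul_eq_zero.mp this).resolve_left h2
        have hC : C = 0 := by
          have : (2 : F) • C = 0 := by
            rw [two_smul]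
            nth_rw 1 [← e3]
            simp
          exact (smul_eq_zero.mp this).resolve_left h2
        subst hB hC
        have hmem := g.2
        rw [hM, mem_blk_iff] at hmem
        obtain ⟨h5, -, -, h6⟩ := blk_inj hmem
        simp only [zero_mul, add_zero, zero_add, omega_conj] at h5 h6
        have hdet : ∀ X : M2 F, X.det • Ω F = Ω F → X.det = 1 := by
          intro X hX
          have h7 := congrFun (congrFun hX 1) 0
          simpa [Ω] using h7
        refine ⟨⟨A, hdet A h5⟩, ⟨E, hdet E h6⟩, ?_⟩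
        apply Subtype.ext
        exact hM
      conj := by
        intro r r' hr hr'
        rw [hy'] at hr hr'
        obtain ⟨g, hg⟩ := Cfsg.Agent.Lib.Classical.SL2.Order4.exists_conj_J hF h2 r hr
        obtain ⟨g', hg'⟩ := Cfsg.Agent.Lib.Classical.SL2.Order4.exists_conj_J hF h2 r' hr'
        refine ⟨g' * g⁻¹, ?_⟩
        rw [hg, hg']
        group
      exT := by
        intro i hi
        have hI := hm2 i hi
        have hdet := i.2
        have htr : ((i : SL(2, F)) : M2 F) 1 1 = - ((i : SL(2, F)) : M2 F) 0 0 := by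
          have h5 := Cfsg.Agent.S2431.trace_zero_of_sq i hI
          rw [Matrix.trace_fin_two] at h5
          linear_combination h5
        refine ⟨⟨TM t i, TM_mem ht htr hdet⟩, ?_, ?_, ?_, ?_⟩
        · rw [mul_inv_eq_iff_eq_mul]
          apply Subtype.ext
          show TM t i * blk _ _ _ _ = blk _ 0 0 _ * TM t i
          rw [hyy, Matrix.SpecialLinearGroup.coe_one]
          exact T_σ
        · rw [mul_inv_eq_iff_eq_mul]
          apply Subtype.ext
          show TM t i * blk _ 0 0 _ = ((th (D.y * D.y * i) i * σ : symplecticGroup (Fin 2) F) : Matrix I4 I4 F) * TM t i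
          rw [coe_thσ, hcoe, hyy, Matrix.SpecialLinearGroup.coe_one]
          exact T_z hI
        · rw [mul_inv_eq_iff_eq_mul]
          apply Subtype.ext
          show TM t i * ((th (D.y * D.y * i) i * σ : symplecticGroup (Fin 2) F) : Matrix I4 I4 F) = blk _ _ _ _ * TM t i
          rw [coe_thσ, hcoe]
          exact T_γ hI
        · intro j hj
          rw [mul_inv_eq_iff_eq_mul]
          apply Subtype.ext
          show TM t i * ((th (D.y * D.y * j) j * σ : symplecticGroup (Fin 2) F) : Matrix I4 I4 F) =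
            ((th (D.y * D.y * j) j * σ : symplecticGroup (Fin 2) F) : Matrix I4 I4 F) * TM t i
          rw [coe_thσ, hcoe]
          apply T_J
          have e := congrArg Subtype.val hj
          rw [hcoe, Matrix.SpecialLinearGroup.coe_mul, Matrix.SpecialLinearGroup.coe_mul] at e
          exact e
      card := by
        rw [Cfsg.Agent.Lib.SpWreath.Tower.val_sp F hF 2]
        show 2 * (Nat.card (SL(2, F))).factorization 2 + _ = _
        rw [hD]
        have : padicValNat 2 (Nat.factorial 2) = 1 := by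
          simp [Nat.factorial]
        rw [this]
        ring }
  exact W.simple_center hz R

end inst

end Cfsg.Agent.Lib.H29.Sp4Inst
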