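import Cfsg.Agent.Lib.H29.StrongExtraA
import Cfsg.Agent.Lib.FusionTheory.NormalCrit

/-!
# Strongly closed generalized extraspecial subgroups
-/

set_option autoImplicit false

namespace Cfsg.Agent.Lib.H29.StrongExtra

open Subgroup
open Cfsg Cfsg.FusionSystem Cfsg.Agent.Lib.Fusion.Basic Cfsg.Agent.Lib.Fusion.Saturation
open Cfsg.Agent.Lib.FusionTheory.Normal
open Cfsg.Agent.Lib.PGroups.ExtraIso Cfsg.Agent.Lib.H29.StrongExtraA
open scoped commutatorElement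

variable {Ω : Type*} [Group Ω] {S : Subgroup Ω} [Finite S] {p : ℕ} [hp : Fact p.Prime]

/-- What is used about a generalized extraspecial subgroup. -/
structure GE (p : ℕ) (S P Z₀ : Subgroup Ω) : Prop where
  le_P : Z₀ ≤ P
  card : Nat.card Z₀ = p
  central : ∀ s ∈ S, ∀ z ∈ Z₀, s * z = z * s
  comm : ∀ x ∈ P, ∀ y ∈ P, ⁅x, y⁆ ∈ Z₀
  pow : ∀ x ∈ P, x ^ p ∈ Z₀

/-- A nontrivial element generates a subgroup of prime order. -/
theorem exists_pow_of_mem {Z : Subgroup Ω} (hc : Nat.card Z = p) {e u : Ω} (he : e ∈ Z) (he1 : e ≠ 1) (hu : u ∈ Z) :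
    ∃ k : ℕ, u = e ^ k := by
  have hfin : Finite Z := Nat.finite_of_card_ne_zero (by rw [hc]; exact hp.out.ne_zero)
  have hord : orderOf (⟨e, he⟩ : Z) = p := by
    have h1 : orderOf (⟨e, he⟩ : Z) ∣ Nat.card Z := orderOf_dvd_natCard _
    rw [hc] at h1
    rcases (Nat.dvd_prime hp.out).1 h1 with h2 | h2
    · exfalso
      apply he1
      have := orderOf_eq_one_iff.1 h2
      exact congrArg Subtype.val this
    · exact h2
  have hz : zpowers (⟨e, he⟩ : Z) = ⊤ := by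
    apply eq_top_of_card_eq
    rw [Nat.card_zpowers, hord, hc]
  have hu' : (⟨u, hu⟩ : Z) ∈ zpowers (⟨e, he⟩ : Z) := by
    rw [hz]
    exact mem_top _
  obtain ⟨k, hk⟩ := Cfsg.Agent.Lib.Metacyclic.Basic.exists_natPow_of_mem_zpowers hu'
  exact ⟨k, by simpa using congrArg Subtype.val hk⟩

variable (F : FusionSystem S)

/-- **Lemma A.** If an element of `Z₀` is conjugate to an element `v` outside `Z₀`, the centralizer of `v` in `P`
is abelian of exponent `p`. -/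
theorem lemmaA (hS : IsPGroup p S) (hF : F.IsSaturated p) {P Z₀ : Subgroup Ω} (hP : F.StronglyClosed P)
    (hG : GE p S P Z₀) {R₁ : Subgroup Ω} (hR₁ : R₁ ≤ Z₀) {φ : R₁ →* Ω} (hφ : φ ∈ F.Hom R₁) (x : R₁)
    (hx : φ x ∉ Z₀) :
    ∃ χ ∈ F.Hom (centralizerIn S φ.range), (∀ h, χ ⟨φ x, h⟩ = x) ∧ Z₀ ≤ centralizerIn S φ.range ∧
      φ.range ≤ centralizerIn S φ.range ∧
      (∀ e (he : e ∈ centralizerIn S φ.range), e ∈ Z₀ → e ≠ 1 → χ ⟨e, he⟩ ∉ Z₀) ∧
      (∀ w (hw : w ∈ centralizerIn S φ.range), w ∈ P → χ ⟨w, hw⟩ ∈ P) ∧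
      (∀ w ∈ P ⊓ centralizerIn S φ.range, w ^ p = 1) ∧
      ∀ w₁ ∈ P ⊓ centralizerIn S φ.range, ∀ w₂ ∈ P ⊓ centralizerIn S φ.range, w₁ * w₂ = w₂ * w₁ := by
  classical
  have hPS := hP.1
  have hZS : Z₀ ≤ S := hG.le_P.trans hPS
  have hx1 : (x : Ω) ≠ 1 := by
    intro h
    apply hx
    have : x = 1 := Subtype.ext h
    rw [this, map_one]
    exact one_mem _
  have hZcomm : ∀ a ∈ Z₀, ∀ b ∈ Z₀, a * b = b * a := fun a ha b hb => hG.central a (hZS ha) b hb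
  have hZ₀fin : Finite Z₀ := finite_of_le hZS
  have hR₁eq : R₁ = Z₀ := by
    have h1 : Nat.card R₁ ∣ p := by
      rw [← hG.card]
      exact card_dvd_of_le hR₁
    rcases (Nat.dvd_prime hp.out).1 h1 with h2 | h2
    · exfalso
      have h3 : x = 1 := by
        have : Subsingleton R₁ := (Nat.card_eq_one_iff_unique.1 h2).1
        exact Subsingleton.elim _ _
      exact hx1 (congrArg Subtype.val h3)
    · exact eq_of_le_of_card_ge hR₁ (by rw [hG.card, h2])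
  -- the image is abelian
  have hQS : φ.range ≤ S := range_le F hφ
  have hQself : φ.range ≤ centralizerIn S φ.range := by
    rintro _ ⟨a, rfl⟩
    refine ⟨val_mem F hφ a, mem_centralizer_iff.2 ?_⟩
    rintro _ ⟨b, rfl⟩
    rw [← map_mul, ← map_mul]
    congr 1
    exact Subtype.ext (hZcomm _ (hR₁ b.2) _ (hR₁ a.2))
  obtain ⟨ψ, hψ, -, hψφ, -, hψr⟩ := exists_inv F hφ rfl
  -- `Z₀` is receptive
  have hZfull : F.IsFullyNormalized Z₀ := by
    refine ⟨hZS, fun Q _ => ?_⟩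
    have hn : normalizerIn S Z₀ = S := by
      apply le_antisymm inf_le_left
      intro s hs
      refine ⟨hs, mem_normalizer_iff.2 fun z => ?_⟩
      constructor
      · intro hz
        rwa [hG.central s hs z hz, mul_inv_cancel_right]
      · intro hz
        have h2 := hG.central s hs _ hz
        have h3 : z = s * z * s⁻¹ := by
          calc z = s⁻¹ * (s * z * s⁻¹ * s) := by group
            _ = s⁻¹ * (s * (s * z * s⁻¹)) := by rw [h2]
            _ = s * z * s⁻¹ := by group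
        rw [h3]
        exact hz
    rw [hn]
    exact card_le_of_le_finite (normalizerIn_le_left _ _)
  have hrec := isReceptive_of_isFullyNormalized F hS hF hZfull
  obtain ⟨χ, hχ, hχext⟩ := IsReceptive.exists_extension F hrec hψ (hψr.trans hR₁eq)
    (centralizerIn_le_extender ψ) hQself
  have hχinj := F.injective_of_mem hχ
  have hχx : ∀ h, χ ⟨φ x, h⟩ = x := by
    intro h
    have h1 := hχext ⟨φ x, ⟨x, rfl⟩⟩
    rw [hψφ x ⟨x, rfl⟩] at h1
    exact h1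
  have hZC : Z₀ ≤ centralizerIn S φ.range := fun z hz =>
    ⟨hZS hz, mem_centralizer_iff.2 fun q hq => hG.central q (hQS hq) z hz⟩
  have hχP : ∀ w (hw : w ∈ centralizerIn S φ.range), w ∈ P → χ ⟨w, hw⟩ ∈ P := by
    intro w hw hwP
    have hle : P ⊓ centralizerIn S φ.range ≤ centralizerIn S φ.range := inf_le_right
    exact hP.2 _ inf_le_left _ (restrict_mem F hle hχ) ⟨w, hwP, hw⟩
  have hkey : ∀ e (he : e ∈ centralizerIn S φ.range), e ∈ Z₀ → e ≠ 1 → χ ⟨e, he⟩ ∉ Z₀ := by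
    intro e he heZ he1 hχe
    -- `χ` maps `Z₀` to itself
    have hmaps : ∀ u (hu : u ∈ Z₀), χ ⟨u, hZC hu⟩ ∈ Z₀ := by
      intro u hu
      obtain ⟨k, rfl⟩ := exists_pow_of_mem hG.card heZ he1 hu
      have h1 : (⟨e ^ k, hZC hu⟩ : centralizerIn S φ.range) = ⟨e, he⟩ ^ k := rfl
      rw [h1, map_pow]
      exact pow_mem hχe k
    let g : Z₀ → Z₀ := fun u => ⟨χ ⟨u, hZC u.2⟩, hmaps u u.2⟩
    have hginj : Function.Injective g := by
      intro a b hab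
      have h1 : χ ⟨a, hZC a.2⟩ = χ ⟨b, hZC b.2⟩ := congrArg Subtype.val hab
      have h2 := hχinj h1
      exact Subtype.ext (congrArg (fun y : centralizerIn S φ.range => (y : Ω)) h2)
    have hgs := Finite.surjective_of_injective hginj
    have hxZ : (x : Ω) ∈ Z₀ := hR₁ x.2
    obtain ⟨u, hu⟩ := hgs ⟨x, hxZ⟩
    have h1 : χ ⟨u, hZC u.2⟩ = x := congrArg Subtype.val hu
    have hφxC : φ x ∈ centralizerIn S φ.range := hQself ⟨x, rfl⟩
    have h2 : χ ⟨u, hZC u.2⟩ = χ ⟨φ x, hφxC⟩ := by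
      rw [h1, hχx]
    have h3 := hχinj h2
    apply hx
    have h4 : (u : Ω) = φ x := congrArg Subtype.val h3
    rw [← h4]
    exact u.2
  refine ⟨χ, hχ, hχx, hZC, hQself, hkey, hχP, ?_, ?_⟩
  · rintro w ⟨hwP, hwC⟩
    by_contra hne
    apply hkey _ (pow_mem hwC p) (hG.pow w hwP) hne
    have h1 : (⟨w ^ p, pow_mem hwC p⟩ : centralizerIn S φ.range) = ⟨w, hwC⟩ ^ p := rfl
    rw [h1, map_pow]
    exact hG.pow _ (hχP w hwC hwP)
  · rintro w₁ ⟨h1P, h1C⟩ w₂ ⟨h2P, h2C⟩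
    by_contra hne
    have hne' : ⁅w₁, w₂⁆ ≠ 1 := fun h => hne (commutatorElement_eq_one_iff_mul_comm.1 h)
    have hc : ⁅w₁, w₂⁆ ∈ centralizerIn S φ.range := by
      rw [commutatorElement_def]
      exact mul_mem (mul_mem (mul_mem h1C h2C) (inv_mem h1C)) (inv_mem h2C)
    apply hkey _ hc (hG.comm _ h1P _ h2P) hne'
    have h1 : (⟨⁅w₁, w₂⁆, hc⟩ : centralizerIn S φ.range) = ⁅(⟨w₁, h1C⟩ : centralizerIn S φ.range), ⟨w₂, h2C⟩⁆ := rfl
    rw [h1, commutatorElement_def, map_mul, map_mul, map_mul, map_inv, map_inv]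
    have := hG.comm _ (hχP w₁ h1C h1P) _ (hχP w₂ h2C h2P)
    rwa [commutatorElement_def] at this

/-- Class two: the index computation. -/
theorem comm_conj_index {G : Type*} [Group G] (hc : ∀ a b : G, ⁅a, b⁆ ∈ center G) (t v w : G) (i : ℕ)
    (h : ⁅w, v⁆ = ⁅t, v⁆ ^ i) : ((t ^ i)⁻¹ * w) * v = v * ((t ^ i)⁻¹ * w) := by
  rw [← commutatorElement_eq_one_iff_mul_comm]
  rw [Cfsg.Agent.Lib.PGroups.ClassTwo.comm_mul_left hc, h, Cfsg.Agent.Lib.PGroups.Special.comm_inv_left hc,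
    ← Cfsg.Agent.Lib.PGroups.ClassTwo.comm_pow_left hc, ← commutatorElement_inv (t ^ i) v]
  exact inv_mul_cancel _

/-- Elements commuting with `φ x` commute with the image of `φ`. -/
theorem mem_centralizerIn_of_comm {P Z₀ : Subgroup Ω} (hG : GE p S P Z₀) {R₁ : Subgroup Ω} (hR₁ : R₁ ≤ Z₀)
    {φ : R₁ →* Ω} (x : R₁) (hx : φ x ∉ Z₀) {w : Ω} (hwS : w ∈ S) (hw : w * φ x = φ x * w) :
    w ∈ centralizerIn S φ.range := by
  refine ⟨hwS, mem_centralizer_iff.2 ?_⟩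
  rintro _ ⟨a, rfl⟩
  have hx1 : (x : Ω) ≠ 1 := by
    intro h
    apply hx
    have : x = 1 := Subtype.ext h
    rw [this, map_one]
    exact one_mem _
  obtain ⟨k, hk⟩ := exists_pow_of_mem hG.card (hR₁ x.2) hx1 (hR₁ a.2)
  have h1 : a = x ^ k := Subtype.ext (by simpa using hk)
  rw [h1, map_pow]
  exact ((Commute.pow_left hw.symm k) : _)

/-- The special case: every element of order dividing `p` of `P` commutes with `v`. -/
theorem false_of_special (hp2 : p ≠ 2) (hS : IsPGroup p S) (hF : F.IsSaturated p) {P Z₀ : Subgroup Ω}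
    (hP : F.StronglyClosed P) (hG : GE p S P Z₀) (hnab : ∃ a ∈ P, ∃ b ∈ P, a * b ≠ b * a)
    {R₁ : Subgroup Ω} (hR₁ : R₁ ≤ Z₀) {φ : R₁ →* Ω} (hφ : φ ∈ F.Hom R₁) (x : R₁) (hx : φ x ∉ Z₀)
    (hB : ∀ w ∈ P, w ^ p = 1 → w ∈ centralizerIn S φ.range) {t : Ω} (htP : t ∈ P)
    (ht : t ∉ centralizerIn S φ.range) : False := by
  classical
  obtain ⟨χ, hχ, hχx, hZC, hQself, hkey, hχP, hexp, habel⟩ := lemmaA F hS hF hP hG hR₁ hφ x hx
  have hPS := hP.1
  have hZS : Z₀ ≤ S := hG.le_P.trans hPS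
  have hx1 : (x : Ω) ≠ 1 := by
    intro h
    apply hx
    have : x = 1 := Subtype.ext h
    rw [this, map_one]
    exact one_mem _
  have hxZ : (x : Ω) ∈ Z₀ := hR₁ x.2
  have hvP : φ x ∈ P := hP.2 R₁ (hR₁.trans hG.le_P) φ hφ x
  have hvC : φ x ∈ centralizerIn S φ.range := hQself ⟨x, rfl⟩
  let C₃ : Subgroup Ω := P ⊓ centralizerIn S φ.range
  have hC₃S : C₃ ≤ S := inf_le_left.trans hPS
  have hfC : Finite C₃ := finite_of_le hC₃S
  have htS := hPS htP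
  have hC₃mem : ∀ w, w ∈ C₃ ↔ w ∈ P ∧ w ^ p = 1 := fun w =>
    ⟨fun h => ⟨h.1, hexp w h⟩, fun h => ⟨h.1, hB w h.1 h.2⟩⟩
  have hSn : S ≤ normalizer (C₃ : Set Ω) := by
    intro s hs
    have hsP : ∀ s ∈ S, ∀ w ∈ C₃, s * w * s⁻¹ ∈ C₃ := by
      intro s hs w hw
      rw [hC₃mem] at hw ⊢
      refine ⟨StronglyClosed.conj_mem F hP hs hw.1, ?_⟩
      rw [conj_pow, hw.2]
      simp
    rw [mem_normalizer_iff]
    intro w
    refine ⟨hsP s hs w, fun h => ?_⟩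
    have := hsP s⁻¹ (S.inv_mem hs) _ h
    have e : s⁻¹ * (s * w * s⁻¹) * s⁻¹⁻¹ = w := by group
    rwa [e] at this
  have hfull : F.IsFullyNormalized C₃ := by
    refine ⟨hC₃S, fun Q _ => ?_⟩
    have hn : normalizerIn S C₃ = S := le_antisymm inf_le_left (fun s hs => ⟨hs, hSn hs⟩)
    rw [hn]
    exact card_le_of_le_finite (normalizerIn_le_left _ _)
  have hrec := isReceptive_of_isFullyNormalized F hS hF hfull
  -- `χ` restricted to `C₃`
  let χ₃ : C₃ →* Ω := χ.comp (Subgroup.inclusion inf_le_right)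
  have hχ₃ : χ₃ ∈ F.Hom C₃ := restrict_mem F inf_le_right hχ
  have hχ₃C : ∀ w : C₃, χ₃ w ∈ C₃ := by
    intro w
    rw [hC₃mem]
    refine ⟨hχP _ _ w.2.1, ?_⟩
    show (χ ⟨w, w.2.2⟩) ^ p = 1
    rw [← map_pow]
    have h1 : (⟨w, w.2.2⟩ : centralizerIn S φ.range) ^ p = 1 := by
      apply Subtype.ext
      exact hexp w w.2
    rw [h1, map_one]
  have hχ₃r : χ₃.range = C₃ := range_eq_of_card_le χ₃ (F.injective_of_mem hχ₃) hχ₃C le_rfl
  obtain ⟨φ₀, hφ₀, hφ₀v⟩ := exists_aut_of_range F hχ₃ hχ₃r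
  have htn : t ∈ normalizer (C₃ : Set Ω) := hSn htS
  let x₀ : MulAut C₃ := normAct C₃ htn
  have hx₀ : x₀ ∈ F.autGroup C₃ := normAct_mem_autGroup F hC₃S htS htn
  have hx₀a : ∀ r : C₃, ((x₀ r : C₃) : Ω) = t * r * t⁻¹ := fun r => rfl
  letI cg : CommGroup C₃ :=
    { (inferInstance : Group C₃) with
      mul_comm := fun a b => Subtype.ext (habel _ a.2 _ b.2) }
  have hxC₃ : (x : Ω) ∈ C₃ := ⟨hG.le_P hxZ, hZC hxZ⟩
  let zt : C₃ := ⟨x, hxC₃⟩
  let vt : C₃ := ⟨φ x, hvP, hvC⟩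
  have hcent : ∀ s ∈ S, ∀ e ∈ Z₀, s * e = e * s := hG.central
  have hxe : ∀ e ∈ Z₀, e ^ p = 1 := by
    intro e he
    have hZfin : Finite Z₀ := finite_of_le hZS
    have h1 : (⟨e, he⟩ : Z₀) ^ Nat.card Z₀ = 1 := pow_card_eq_one'
    rw [hG.card] at h1
    exact congrArg Subtype.val h1
  have hcP : ∀ a b : P, ⁅a, b⁆ ∈ center P := by
    intro a b
    rw [mem_center_iff]
    intro g
    apply Subtype.ext
    exact hcent _ (hPS g.2) _ (hG.comm _ a.2 _ b.2)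
  have h1 : ∀ r : C₃, ∃ k : ℕ, x₀ r = r * zt ^ k := by
    intro r
    have hc : ⁅(r : Ω)⁻¹, t⁆ ∈ Z₀ := hG.comm _ (P.inv_mem r.2.1) _ htP
    obtain ⟨k, hk⟩ := exists_pow_of_mem hG.card hxZ hx1 hc
    refine ⟨k, Subtype.ext ?_⟩
    show t * r * t⁻¹ = r * (x : Ω) ^ k
    rw [← hk, commutatorElement_def]
    group
  have h2 : x₀ zt = zt := by
    apply Subtype.ext
    show t * (x : Ω) * t⁻¹ = x
    rw [hcent t htS _ hxZ]
    group
  have h3 : φ₀ vt = zt := by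
    apply Subtype.ext
    rw [hφ₀v vt]
    exact hχx _
  have h4 : x₀ vt ≠ vt := by
    intro h
    apply ht
    have h5 : t * φ x * t⁻¹ = φ x := congrArg Subtype.val h
    exact mem_centralizerIn_of_comm hG hR₁ x hx htS (by
      calc t * φ x = t * φ x * t⁻¹ * t := by group
        _ = φ x * t := by rw [h5])
  have h5 : x₀ (φ₀ zt) ≠ φ₀ zt := by
    intro h
    have hu0 : ((φ₀ zt : C₃) : Ω) = χ ⟨x, hZC hxZ⟩ := hφ₀v zt
    have hut : t * ((φ₀ zt : C₃) : Ω) * t⁻¹ = ((φ₀ zt : C₃) : Ω) := congrArg Subtype.val h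
    have hu1 : ((φ₀ zt : C₃) : Ω) ∉ Z₀ := by
      rw [hu0]
      exact hkey _ _ hxZ hx1
    let φ₁ : Z₀ →* Ω := χ.comp (Subgroup.inclusion hZC)
    have hφ₁ : φ₁ ∈ F.Hom Z₀ := restrict_mem F hZC hχ
    let x₁ : Z₀ := ⟨x, hxZ⟩
    have hφ₁x : φ₁ x₁ = ((φ₀ zt : C₃) : Ω) := hu0.symm
    have hx₁ : φ₁ x₁ ∉ Z₀ := by
      rw [hφ₁x]
      exact hu1
    obtain ⟨-, -, -, -, -, -, -, -, habel₁⟩ := lemmaA F hS hF hP hG le_rfl hφ₁ x₁ hx₁
    have hcomm : ∀ w ∈ P, w * ((φ₀ zt : C₃) : Ω) = ((φ₀ zt : C₃) : Ω) * w := by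
      intro w hw
      -- the commutator of `t` and `v` generates `Z₀`
      have htv : ⁅t, φ x⁆ ≠ 1 := by
        intro h6
        apply ht
        exact mem_centralizerIn_of_comm hG hR₁ x hx htS (commutatorElement_eq_one_iff_mul_comm.1 h6)
      obtain ⟨i, hi⟩ := exists_pow_of_mem hG.card (hG.comm _ htP _ hvP) htv (hG.comm _ hw _ hvP)
      have h6 := comm_conj_index hcP (⟨t, htP⟩ : P) ⟨φ x, hvP⟩ ⟨w, hw⟩ i (Subtype.ext (by
        show ⁅w, φ x⁆ = ⁅t, φ x⁆ ^ i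
        exact hi))
      have h7 : ((t ^ i)⁻¹ * w) * φ x = φ x * ((t ^ i)⁻¹ * w) := by
        simpa using congrArg Subtype.val h6
      have hcP' : (t ^ i)⁻¹ * w ∈ P := P.mul_mem (P.inv_mem (P.pow_mem htP i)) hw
      have hcC : (t ^ i)⁻¹ * w ∈ C₃ :=
        ⟨hcP', mem_centralizerIn_of_comm hG hR₁ x hx (hPS hcP') h7⟩
      have h8 := habel _ hcC _ (φ₀ zt).2
      have h9 : Commute t ((φ₀ zt : C₃) : Ω) := by
        show t * _ = _ * t
        calc t * ((φ₀ zt : C₃) : Ω) = t * ((φ₀ zt : C₃) : Ω) * t⁻¹ * t := by group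
          _ = _ := by rw [hut]
      have h10 : w = t ^ i * ((t ^ i)⁻¹ * w) := by group
      rw [h10]
      exact (h9.pow_left i).mul_left h8
    obtain ⟨a, ha, b, hb, hab⟩ := hnab
    apply hab
    have hC' : ∀ w ∈ P, w ∈ P ⊓ centralizerIn S φ₁.range := fun w hw =>
      ⟨hw, mem_centralizerIn_of_comm hG le_rfl x₁ hx₁ (hPS hw) (by rw [hφ₁x]; exact hcomm w hw)⟩
    exact habel₁ a (hC' a ha) b (hC' b hb)
  obtain ⟨ι, hιcl, hιz, hιc⟩ := exists_inversion_word (p := p) (V := C₃) (fun a => Subtype.ext (hexp _ a.2))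
    x₀ φ₀ zt vt h1 h2 h3 h4 h5
  have hι : ι ∈ F.autGroup C₃ := by
    refine (closure_le _).2 ?_ hιcl
    rintro _ (rfl | rfl)
    · exact hx₀
    · exact hφ₀
  -- extension
  have hm := autHom_mem F hC₃S hι
  have htT : t ∈ extender S C₃ (autHom ι) := by
    refine mem_extender_of _ htS htn htS (fun r => ?_)
    have h6 : (⟨t * r * t⁻¹, (mem_normalizer_iff.1 htn r).1 r.2⟩ : C₃) = x₀ r := rfl
    rw [h6]
    show ((ι (x₀ r) : C₃) : Ω) = t * ((ι r : C₃) : Ω) * t⁻¹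
    have h7 : ι (x₀ r) = x₀ (ι r) := by
      have := congrArg (fun f : MulAut C₃ => f r) hιc
      exact this
    rw [h7]
    rfl
  have hle := le_extender F hm
  obtain ⟨ψ, hψ, hψext⟩ := IsReceptive.exists_extension F hrec hm (autHom_range _) (le_refl _) hle
  have hψP : ψ ⟨t, htT⟩ ∈ P :=
    hP.2 (extender S C₃ (autHom ι) ⊓ P) inf_le_right _ (restrict_mem F inf_le_left hψ) ⟨t, htT, htP⟩
  have hconj : ∀ r' : C₃, ψ ⟨t, htT⟩ * r' * (ψ ⟨t, htT⟩)⁻¹ = t * r' * t⁻¹ := by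
    intro r'
    have h6 := extension_conj hle hψext ⟨t, htT⟩ htn (ι⁻¹ r')
    have h7 : autHom ι (ι⁻¹ r') = r' := by
      show ((ι (ι⁻¹ r') : C₃) : Ω) = r'
      rw [MulAut.apply_inv_self]
    rw [h7] at h6
    rw [h6]
    show ((ι (x₀ (ι⁻¹ r')) : C₃) : Ω) = _
    have h8 : ι (x₀ (ι⁻¹ r')) = x₀ (ι (ι⁻¹ r')) := by
      have := congrArg (fun f : MulAut C₃ => f (ι⁻¹ r')) hιc
      exact this
    rw [h8, MulAut.apply_inv_self]
    rfl
  -- `ψ t = t w₀`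
  set u := ψ ⟨t, htT⟩ with hu
  have hw₀P : t⁻¹ * u ∈ P := P.mul_mem (P.inv_mem htP) hψP
  have hw₀v : (t⁻¹ * u) * φ x = φ x * (t⁻¹ * u) := by
    have h6 := hconj vt
    have h7 : u * φ x * u⁻¹ = t * φ x * t⁻¹ := h6
    calc (t⁻¹ * u) * φ x = t⁻¹ * (u * φ x * u⁻¹) * u := by group
      _ = t⁻¹ * (t * φ x * t⁻¹) * u := by rw [h7]
      _ = _ := by group
  have hw₀C : t⁻¹ * u ∈ C₃ := ⟨hw₀P, mem_centralizerIn_of_comm hG hR₁ x hx (hPS hw₀P) hw₀v⟩
  have hup : u ^ p = t ^ p := by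
    have h6 : u = t * (t⁻¹ * u) := by group
    have hcz := hG.comm _ hw₀P _ htP
    have hcz' : ⁅t⁻¹ * u, t⁆ ∈ Z₀ := hcz
    have h7 : Commute ⁅t⁻¹ * u, t⁆ t := (hcent t htS _ hcz').symm
    have h8 : Commute ⁅t⁻¹ * u, t⁆ (t⁻¹ * u) := (hcent _ (hPS hw₀P) _ hcz').symm
    have h9 := Cfsg.Agent.Lib.PGroups.ClassTwo.mul_pow_of_comm h7 h8 p
    rw [← h6] at h9
    rw [h9, hexp _ hw₀C, mul_one]
    obtain ⟨m, hm'⟩ : p ∣ p.choose 2 := hp.out.dvd_choose_self (by norm_num) (hp.out.two_le.lt_of_ne' hp2)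
    rw [hm', pow_mul, hxe _ hcz', one_pow, mul_one]
  have hτZ : t ^ p ∈ Z₀ := hG.pow t htP
  have hτ1 : t ^ p ≠ 1 := fun h6 => ht (hB t htP h6)
  have hτC : t ^ p ∈ C₃ := ⟨hG.le_P hτZ, hZC hτZ⟩
  have h6 : ((ι ⟨t ^ p, hτC⟩ : C₃) : Ω) = t ^ p := by
    have h7 := hψext ⟨t ^ p, hτC⟩
    have h8 : (⟨t ^ p, hle hτC⟩ : extender S C₃ (autHom ι)) = ⟨t, htT⟩ ^ p := rfl
    rw [h8, map_pow, ← hu, hup] at h7
    exact h7.symm
  obtain ⟨k, hk⟩ := exists_pow_of_mem hG.card hxZ hx1 hτZ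
  have h7 : (⟨t ^ p, hτC⟩ : C₃) = zt ^ k := Subtype.ext hk
  have h8 : ((ι ⟨t ^ p, hτC⟩ : C₃) : Ω) = (t ^ p)⁻¹ := by
    rw [h7, map_pow, hιz, inv_pow, hk]
    rfl
  rw [h6] at h8
  -- `τ = τ⁻¹`
  have h9 : (t ^ p) ^ 2 = 1 := by
    rw [sq]
    nth_rewrite 1 [h8]
    exact inv_mul_cancel _
  have h10 := hxe _ hτZ
  have h11 : orderOf (t ^ p) = 1 := Nat.eq_one_of_dvd_coprimes
    ((Nat.coprime_primes Nat.prime_two hp.out).2 (Ne.symm hp2)) (orderOf_dvd_of_pow_eq_one h9)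
    (orderOf_dvd_of_pow_eq_one h10)
  exact hτ1 (orderOf_eq_one_iff.1 h11)

/-- If `Z₀` is not strongly closed, then `P` is `Heis p × A`. -/
theorem exists_equiv_of_not_closed (hS : IsPGroup p S) (hF : F.IsSaturated p) {P Z₀ : Subgroup Ω}
    (hP : F.StronglyClosed P) (hG : GE p S P Z₀) (hnab : ∃ a ∈ P, ∃ b ∈ P, a * b ≠ b * a)
    (hZ : ¬ F.StronglyClosed Z₀) : ∃ n : ℕ, Nonempty (↥P ≃* Heis p × Multiplicative (Fin n → ZMod p)) := by
  classical
  have hPS := hP.1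
  have hZS : Z₀ ≤ S := hG.le_P.trans hPS
  have hfP : Finite P := finite_of_le hPS
  have hnot : ∃ R₁ : Subgroup Ω, R₁ ≤ Z₀ ∧ ∃ φ ∈ F.Hom R₁, ∃ x : R₁, φ x ∉ Z₀ := by
    by_contra hcon
    push Not at hcon
    exact hZ ⟨hZS, hcon⟩
  obtain ⟨R₁, hR₁, φ, hφ, x, hx⟩ := hnot
  obtain ⟨χ, hχ, hχx, hZC, hQself, hkey, hχP, hexp, habel⟩ := lemmaA F hS hF hP hG hR₁ hφ x hx
  have hvP : φ x ∈ P := hP.2 R₁ (hR₁.trans hG.le_P) φ hφ x
  have hvC : φ x ∈ centralizerIn S φ.range := hQself ⟨x, rfl⟩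
  have hxe : ∀ e ∈ Z₀, e ^ p = 1 := by
    intro e he
    have hZfin : Finite Z₀ := finite_of_le hZS
    have h1 : (⟨e, he⟩ : Z₀) ^ Nat.card Z₀ = 1 := pow_card_eq_one'
    rw [hG.card] at h1
    exact congrArg Subtype.val h1
  have hcP : ∀ a b : P, ⁅a, b⁆ ∈ center P := by
    intro a b
    rw [mem_center_iff]
    intro g
    apply Subtype.ext
    exact hG.central _ (hPS g.2) _ (hG.comm _ a.2 _ b.2)
  let C : Subgroup P := (P ⊓ centralizerIn S φ.range).subgroupOf P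
  let v : P := ⟨φ x, hvP⟩
  have hCmem : ∀ g : P, g ∈ C ↔ (g : Ω) ∈ centralizerIn S φ.range := fun g =>
    ⟨fun h => h.2, fun h => ⟨g.2, h⟩⟩
  have hCcomm : ∀ g : P, g * v = v * g → g ∈ C := by
    intro g hg
    rw [hCmem]
    exact mem_centralizerIn_of_comm hG hR₁ x hx (hPS g.2) (congrArg Subtype.val hg)
  have hCv : v ∈ C := (hCmem v).2 hvC
  -- a element outside `C`
  have hCc : ∀ a ∈ C, ∀ b ∈ C, a * b = b * a := fun a ha b hb => Subtype.ext (habel _ ha _ hb)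
  have hCp : ∀ a ∈ C, a ^ p = 1 := fun a ha => Subtype.ext (hexp _ ha)
  have hexy : ∃ y : P, y ∉ C := by
    by_contra hcon
    push Not at hcon
    obtain ⟨a, ha, b, hb, hab⟩ := hnab
    apply hab
    exact congrArg Subtype.val (hCc ⟨a, ha⟩ (hcon _) ⟨b, hb⟩ (hcon _))
  have hZmem : ∀ a b : P, ((⁅a, b⁆ : P) : Ω) ∈ Z₀ := fun a b => hG.comm _ a.2 _ b.2
  have hzy : ∀ y : P, y ∉ C → ⁅y, v⁆ ≠ 1 := by
    intro y hy h
    exact hy (hCcomm y (commutatorElement_eq_one_iff_mul_comm.1 h))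
  have hequiv : ∀ y : P, y ∉ C → y ^ p = 1 →
      ∃ n : ℕ, Nonempty (↥P ≃* Heis p × Multiplicative (Fin n → ZMod p)) := by
    intro y hyC hyp
    refine exists_equiv_heis (x := v) (y := y) (z := ⁅y, v⁆) (hCp v hCv) hyp ?_ (hcP y v) (hzy y hyC)
      (mul_eq_comm_mul_mul v y) C hCc hCp hCv ?_ hyC ?_ ?_
    · exact Subtype.ext (hxe _ (hZmem y v))
    · exact (hCmem _).2 (hZC (hZmem y v))
    · intro g
      obtain ⟨i, hi⟩ := exists_pow_of_mem hG.card (hZmem y v) (fun h => hzy y hyC (Subtype.ext h)) (hZmem g v)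
      refine ⟨i, hCcomm _ (comm_conj_index hcP y v g i (Subtype.ext ?_))⟩
      exact hi
    · intro c _
      obtain ⟨k, hk⟩ := exists_pow_of_mem hG.card (hZmem y v) (fun h => hzy y hyC (Subtype.ext h)) (hZmem y c)
      refine ⟨k, ?_⟩
      have h1 : ⁅y, c⁆ = ⁅y, v⁆ ^ k := Subtype.ext hk
      rw [← h1]
      exact mul_eq_comm_mul_mul c y
  by_cases hA : ∃ y : P, y ∉ C ∧ y ^ p = 1
  · obtain ⟨y, hy, hyp⟩ := hA
    exact hequiv y hy hyp
  push Not at hA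
  obtain ⟨y, hy⟩ := hexy
  -- `p` is odd
  have hp2 : p ≠ 2 := by
    intro h2
    have hym : y * v ∉ C := by
      intro h
      apply hy
      have : y = (y * v) * v⁻¹ := by group
      rw [this]
      exact C.mul_mem h (C.inv_mem hCv)
    apply hA _ hym
    subst h2
    have hy2 : y ^ 2 ≠ 1 := hA y hy
    have hz1 : ((⁅y, v⁆ : P) : Ω) ≠ 1 := fun h => hzy y hy (Subtype.ext h)
    have hz2 : ⁅y, v⁆ ^ 2 = 1 := Subtype.ext (hxe _ (hZmem y v))
    have hyZ : ((y ^ 2 : P) : Ω) ∈ Z₀ := hG.pow _ y.2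
    obtain ⟨k, hk⟩ := exists_pow_of_mem hG.card (hZmem y v) hz1 hyZ
    have hk' : y ^ 2 = ⁅y, v⁆ ^ k := Subtype.ext hk
    have hyz : y ^ 2 = ⁅y, v⁆ := by
      rcases Nat.even_or_odd' k with ⟨m, rfl | rfl⟩
      · exfalso
        apply hy2
        rw [hk', pow_mul, hz2, one_pow]
      · rw [hk', pow_succ, pow_mul, hz2, one_pow, one_mul]
    have hv2 : v ^ 2 = 1 := hCp v hCv
    have hzc : ⁅y, v⁆ ∈ center P := hcP y v
    rw [sq]
    calc (y * v) * (y * v) = (⁅y, v⁆ * v * y) * (y * v) := by rw [← mul_eq_comm_mul_mul v y]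
      _ = ⁅y, v⁆ * (v * (y * y * v)) := by group
      _ = ⁅y, v⁆ * (v * (⁅y, v⁆ * v)) := by rw [← sq y, hyz]
      _ = ⁅y, v⁆ * ((v * ⁅y, v⁆) * v) := by group
      _ = ⁅y, v⁆ * ((⁅y, v⁆ * v) * v) := by rw [mem_center_iff.1 hzc v]
      _ = ⁅y, v⁆ ^ 2 * v ^ 2 := by
        rw [sq, sq]
        group
      _ = 1 := by rw [hz2, hv2, one_mul]
  exfalso
  refine false_of_special F hp2 hS hF hP hG hnab hR₁ hφ x hx ?_ y.2 (fun h => hy ((hCmem y).2 h))
  intro w hw hwp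
  by_contra hcon
  exact hA ⟨w, hw⟩ (fun h => hcon ((hCmem _).1 h)) (Subtype.ext hwp)

/-- The hypotheses of a generalized extraspecial subgroup. -/
theorem ge_of_hyp (hS : IsPGroup p S) {P : Subgroup Ω} (hP : F.StronglyClosed P)
    (hge : frattini ↥P = commutator ↥P ∧ Nat.card ↥(commutator ↥P) = p) : GE p S P ⁅P, P⁆ := by
  classical
  have hPS := hP.1
  have hfP : Finite P := finite_of_le hPS
  have hmap := P.map_subtype_commutator
  have hle : ⁅P, P⁆ ≤ P := by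
    rw [← hmap]
    exact map_subtype_le _
  have hcard : Nat.card ↥(⁅P, P⁆ : Subgroup Ω) = p := by
    rw [← hmap, Subgroup.card_map_of_injective P.subtype_injective]
    exact hge.2
  have hZS : ⁅P, P⁆ ≤ S := hle.trans hPS
  have hconj : ∀ s ∈ S, ∀ z ∈ ⁅P, P⁆, s * z * s⁻¹ ∈ ⁅P, P⁆ := by
    intro s hs z hz
    have hP' : P.map (MulAut.conj s).toMonoidHom = P := by
      apply le_antisymm
      · rintro _ ⟨y, hy, rfl⟩
        exact StronglyClosed.conj_mem F hP hs hy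
      · intro y hy
        refine ⟨s⁻¹ * y * s⁻¹⁻¹, StronglyClosed.conj_mem F hP (S.inv_mem hs) hy, ?_⟩
        show s * (s⁻¹ * y * s⁻¹⁻¹) * s⁻¹ = y
        group
    have h1 : (⁅P, P⁆).map (MulAut.conj s).toMonoidHom = ⁅P, P⁆ := by
      rw [map_commutator, hP']
    rw [← h1]
    exact ⟨z, hz, rfl⟩
  have hN : ((⁅P, P⁆).subgroupOf S).Normal := by
    constructor
    intro n hn g
    exact hconj g g.2 n hn
  have hcardN : Nat.card ((⁅P, P⁆).subgroupOf S) = p := by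
    rw [Nat.card_congr (Subgroup.subgroupOfEquivOfLe hZS).toEquiv, hcard]
  have hcen := Cfsg.Agent.Lib.PGroups.Special.le_center_of_card_eq hS _ hcardN
  refine ⟨hle, hcard, ?_, fun x hx y hy => commutator_mem_commutator hx hy, ?_⟩
  · intro s hs z hz
    have h1 : (⟨z, hZS hz⟩ : S) ∈ center S := hcen hz
    exact (congrArg Subtype.val (mem_center_iff.1 h1 ⟨s, hs⟩))
  · intro x hx
    rw [← hmap, ← hge.1]
    exact ⟨(⟨x, hx⟩ : P) ^ p, Cfsg.Agent.Lib.PGroups.Basic.pow_mem_frattini (hS.to_le hPS) _, rfl⟩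

theorem stronglyClosed_bot : F.StronglyClosed ⊥ := by
  refine ⟨bot_le, fun R hR φ _ x => ?_⟩
  have h1 : (x : Ω) ∈ (⊥ : Subgroup Ω) := hR x.2
  have h2 : x = 1 := Subtype.ext (mem_bot.1 h1)
  rw [h2, map_one]
  exact one_mem _

/-- **S5233.** -/
theorem isNormal_of_genExtra (hS : IsPGroup p S) (hF : F.IsSaturated p) {P : Subgroup Ω} (hP : F.StronglyClosed P)
    (hge : frattini ↥P = commutator ↥P ∧ Nat.card ↥(commutator ↥P) = p)
    (h2 : p = 2 → ¬ ∃ (A : Type) (_ : CommGroup A), (∀ a : A, a ^ 2 = 1) ∧ Nonempty (↥P ≃* DihedralGroup 4 × A))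
    (hodd : p ≠ 2 → ¬ ∃ (E : Type) (_ : Group E) (A : Type) (_ : CommGroup A), Cfsg.IsExtraspecial p E ∧
      Nat.card E = p ^ 3 ∧ Monoid.exponent E = p ∧ (∀ a : A, a ^ p = 1) ∧ Nonempty (↥P ≃* E × A)) :
    F.IsNormal P := by
  have hG := ge_of_hyp F hS hP hge
  have hPS := hP.1
  have hnab : ∃ a ∈ P, ∃ b ∈ P, a * b ≠ b * a := by
    by_contra hcon
    push Not at hcon
    have h3 : ⁅P, P⁆ = ⊥ := by
      rw [eq_bot_iff, commutator_le]
      intro a ha b hb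
      rw [mem_bot, commutatorElement_eq_one_iff_mul_comm]
      exact hcon a ha b hb
    have h4 := hG.card
    rw [h3] at h4
    simp at h4
    exact hp.out.one_lt.ne h4
  by_cases hcl : F.StronglyClosed ⁅P, P⁆
  · refine Cfsg.Agent.Lib.FusionTheory.NormalCrit.isNormal_of_lcs F hS hF (fun n => ?_)
    have hbot : ∀ k, P.lowerCentralSeries (k + 2) = ⊥ := by
      intro k
      induction k with
      | zero =>
        show ⁅⁅P, P⁆, P⁆ = ⊥
        rw [commutator_eq_bot_iff_le_centralizer]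
        intro z hz
        rw [mem_centralizer_iff]
        intro g hg
        exact hG.central g (hPS hg) z hz
      | succ k ih =>
        show ⁅P.lowerCentralSeries (k + 2), P⁆ = ⊥
        rw [ih, commutator_bot_left]
    match n with
    | 0 => exact hP
    | 1 => exact hcl
    | k + 2 =>
      rw [hbot]
      exact stronglyClosed_bot F
  · obtain ⟨n, ⟨e⟩⟩ := exists_equiv_of_not_closed F hS hF hP hG hnab hcl
    exfalso
    have hA : ∀ a : Multiplicative (Fin n → ZMod p), a ^ p = 1 := by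
      intro a
      apply Multiplicative.toAdd.injective
      funext i
      show (p • Multiplicative.toAdd a) i = 0
      simp
    by_cases hp2 : p = 2
    · subst hp2
      obtain ⟨e₂⟩ := heis_two_equiv
      exact h2 rfl ⟨Multiplicative (Fin n → ZMod 2), inferInstance, hA,
        ⟨e.trans (MulEquiv.prodCongr e₂ (MulEquiv.refl _))⟩⟩
    · exact hodd hp2 ⟨Heis p, inferInstance, Multiplicative (Fin n → ZMod p), inferInstance,
        heis_isExtraspecial hp2, heis_card, heis_exponent hp2, hA, ⟨e⟩⟩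

end Cfsg.Agent.Lib.H29.StrongExtra
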