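import Cfsg.Agent.Lib.PGroups.ExtraIso
import Cfsg.Agent.Lib.H29.StrongMetaA

/-!
# The Heisenberg group of order `p³` and groups `Heis p × A`
-/

set_option autoImplicit false

namespace Cfsg.Agent.Lib.H29.StrongExtraA

open Subgroup Cfsg.Agent.Lib.PGroups.ExtraIso Cfsg.Agent.Lib.PGroups.Special
open scoped commutatorElement

variable {p : ℕ}

theorem heis_pow (u : Heis p) (n : ℕ) :
    (u ^ n).a = n * u.a ∧ (u ^ n).b = n * u.b ∧ (u ^ n).c = n * u.c + (n.choose 2 : ℕ) * (u.b * u.a) := by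
  induction n with
  | zero => simp
  | succ n ih =>
    obtain ⟨h1, h2, h3⟩ := ih
    rw [pow_succ]
    refine ⟨by simp [h1]; ring, by simp [h2]; ring, ?_⟩
    simp only [Heis.mul_c, h3, h2]
    have : ((n + 1).choose 2 : ℕ) = n.choose 2 + n := by
      rw [Nat.choose_succ_succ' n 1, Nat.choose_one_right, add_comm]
    rw [this]
    push_cast
    ring

variable [hp : Fact p.Prime]

theorem heis_pow_p (hp2 : p ≠ 2) (u : Heis p) : u ^ p = 1 := by
  obtain ⟨h1, h2, h3⟩ := heis_pow u p
  have h4 : ((p.choose 2 : ℕ) : ZMod p) = 0 := by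
    rw [ZMod.natCast_eq_zero_iff]
    exact hp.out.dvd_choose_self (by norm_num) (hp.out.two_le.lt_of_ne' hp2)
  ext
  · rw [h1]; simp
  · rw [h2]; simp
  · rw [h3, h4]; simp

theorem heis_mem_center (u : Heis p) : u ∈ center (Heis p) ↔ u.a = 0 ∧ u.b = 0 := by
  constructor
  · intro hu
    have h1 := mem_center_iff.1 hu ⟨1, 0, 0⟩
    have h2 := mem_center_iff.1 hu ⟨0, 1, 0⟩
    have h3 := congrArg Heis.c h1
    have h4 := congrArg Heis.c h2
    simp at h3 h4
    exact ⟨h4, h3⟩
  · rintro ⟨h1, h2⟩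
    rw [mem_center_iff]
    intro g
    ext <;> simp [h1, h2, add_comm]

theorem heis_card_center : Nat.card (center (Heis p)) = p := by
  have e : (center (Heis p)) ≃ ZMod p :=
    { toFun := fun u => (u : Heis p).c
      invFun := fun c => ⟨⟨0, 0, c⟩, (heis_mem_center _).mpr ⟨rfl, rfl⟩⟩
      left_inv := by
        rintro ⟨u, hu⟩
        obtain ⟨h1, h3⟩ := (heis_mem_center u).mp hu
        apply Subtype.ext
        ext
        · simp [h1]
        · simp [h3]
        · rfl
      right_inv := fun c => rfl }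
  rw [Nat.card_congr e, Nat.card_zmod]

theorem heis_card : Nat.card (Heis p) = p ^ 3 := by
  have e : Heis p ≃ ZMod p × ZMod p × ZMod p :=
    { toFun := fun u => (u.a, u.b, u.c)
      invFun := fun c => ⟨c.1, c.2.1, c.2.2⟩
      left_inv := fun _ => rfl
      right_inv := fun _ => rfl }
  rw [Nat.card_congr e, Nat.card_prod, Nat.card_prod, Nat.card_zmod]
  ring

instance : Finite (Heis p) := Nat.finite_of_card_ne_zero (by
  rw [heis_card]; exact pow_ne_zero _ hp.out.ne_zero)

theorem heis_isPGroup : IsPGroup p (Heis p) := IsPGroup.of_card heis_card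

theorem heis_not_comm : ¬ IsMulCommutative (Heis p) := by
  intro hc
  have h1 := hc.is_comm.comm (⟨1, 0, 0⟩ : Heis p) ⟨0, 1, 0⟩
  have h3 := congrArg Heis.c h1
  simp at h3

theorem heis_isExtraspecial (hp2 : p ≠ 2) : Cfsg.IsExtraspecial p (Heis p) := by
  refine ExtraLike.isExtraspecial ⟨heis_isPGroup, heis_card_center, ?_, ?_⟩ heis_not_comm
  · intro x y
    rw [heis_mem_center]
    simp [commutatorElement_def]
  · intro x
    rw [heis_pow_p hp2]
    exact one_mem _

theorem heis_exponent (hp2 : p ≠ 2) : Monoid.exponent (Heis p) = p := by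
  have h1 : Monoid.exponent (Heis p) ∣ p := Monoid.exponent_dvd_of_forall_pow_eq_one (heis_pow_p hp2)
  rcases (Nat.dvd_prime hp.out).1 h1 with h | h
  · exfalso
    have := Monoid.exp_eq_one_iff.1 h
    have h2 := Subsingleton.elim (⟨1, 0, 0⟩ : Heis p) 1
    have h3 := congrArg Heis.a h2
    simp at h3
  · exact h

theorem heis_two_equiv : Nonempty (Heis 2 ≃* DihedralGroup 4) := by
  let a : Heis 2 := ⟨1, 1, 0⟩
  let y : Heis 2 := ⟨1, 0, 0⟩
  have h11 : (1 : ZMod 2) + 1 = 0 := by decide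
  have ha2 : a * a = ⟨0, 0, 1⟩ := by
    ext <;> simp [a, h11]
  have ha4 : (⟨0, 0, 1⟩ : Heis 2) * ⟨0, 0, 1⟩ = 1 := by
    ext <;> simp [h11]
  have hord : orderOf a = 2 ^ (1 + 1) := by
    apply orderOf_eq_prime_pow
    · rw [pow_one, sq, ha2]
      intro h
      have := congrArg Heis.c h
      simp at this
    · have : (2 : ℕ) ^ (1 + 1) = 2 + 2 := rfl
      rw [this, pow_add, sq, ha2, ha4]
  have hy2 : y ^ 2 = 1 := by
    rw [sq]
    ext <;> simp [y, h11]
  have hconj : y * a * y⁻¹ = a⁻¹ := by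
    ext <;> simp [y, a, h11]
  let K : Subgroup (Heis 2) :=
    { carrier := {u | u.a = u.b}
      mul_mem' := by
        intro u v hu hv
        have hu' : u.a = u.b := hu
        have hv' : v.a = v.b := hv
        show (u * v).a = (u * v).b
        simp [hu', hv']
      one_mem' := rfl
      inv_mem' := by
        intro u hu
        have hu' : u.a = u.b := hu
        show (u⁻¹).a = (u⁻¹).b
        simp [hu'] }
  have hy : y ∉ zpowers a := by
    intro h
    have h1 : zpowers a ≤ K := zpowers_le.2 (rfl : a.a = a.b)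
    have h2 : y.a = y.b := h1 h
    simp [y] at h2
  obtain ⟨e⟩ := Cfsg.Agent.Lib.PGroups.Presentations.nonempty_dihedral_equiv (m := 4) (G := Heis 2) hord hy2 hconj hy
    (by rw [heis_card]; norm_num)
  exact ⟨e.symm⟩

section compl

variable {Z : Type*} [CommGroup Z] [Finite Z]

theorem exists_compl_mod [Module (ZMod p) (Additive Z)] (z : Z) :
    ∃ (n : ℕ) (ι : Multiplicative (Fin n → ZMod p) →* Z), Function.Injective ι ∧
      (∀ m (k : ℕ), ι m = z ^ k → ι m = 1) ∧ ∀ a : Z, ∃ (k : ℕ) (m : _), a = z ^ k * ι m := by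
  classical
  have hfin : Finite (Additive Z) := inferInstanceAs (Finite Z)
  haveI : Module.Finite (ZMod p) (Additive Z) := Module.Finite.of_finite
  let W : Submodule (ZMod p) (Additive Z) := Submodule.span (ZMod p) {Additive.ofMul z}
  obtain ⟨W', hW'⟩ := Submodule.exists_isCompl W
  let b := Module.finBasis (ZMod p) W'
  let e := b.equivFun
  let ι₀ : (Fin (Module.finrank (ZMod p) W') → ZMod p) →+ Additive Z :=
    W'.subtype.toAddMonoidHom.comp e.symm.toLinearMap.toAddMonoidHom
  let ι : Multiplicative (Fin (Module.finrank (ZMod p) W') → ZMod p) →* Z :=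
    { toFun := fun m => (ι₀ (Multiplicative.toAdd m)).toMul
      map_one' := by
        show (ι₀ 0).toMul = 1
        rw [map_zero]
        rfl
      map_mul' := fun a b => by
        show (ι₀ (Multiplicative.toAdd a + Multiplicative.toAdd b)).toMul = _
        rw [map_add]
        rfl }
  have hι : ∀ m, Additive.ofMul (ι m) = ((e.symm (Multiplicative.toAdd m) : W') : Additive Z) := fun m => rfl
  refine ⟨_, ι, ?_, ?_, ?_⟩
  · intro m₁ m₂ h
    have h1 := congrArg Additive.ofMul h
    rw [hι, hι] at h1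
    exact Multiplicative.toAdd.injective (e.symm.injective (Subtype.ext h1))
  · intro m k hm
    have h1 : Additive.ofMul (ι m) ∈ W := by
      rw [hm]
      show k • Additive.ofMul z ∈ W
      exact Submodule.smul_of_tower_mem _ k (Submodule.mem_span_singleton_self _)
    have h2 : Additive.ofMul (ι m) ∈ W' := by
      rw [hι]
      exact (e.symm _).2
    have h3 := Submodule.disjoint_def.1 hW'.disjoint _ h1 h2
    exact Additive.ofMul.injective h3
  · intro a
    have h1 : Additive.ofMul a ∈ W ⊔ W' := by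
      rw [hW'.sup_eq_top]
      exact Submodule.mem_top
    obtain ⟨u, hu, w, hw, huw⟩ := Submodule.mem_sup.1 h1
    obtain ⟨c, rfl⟩ := Submodule.mem_span_singleton.1 hu
    refine ⟨c.val, Multiplicative.ofAdd (e ⟨w, hw⟩), ?_⟩
    apply Additive.ofMul.injective
    rw [ofMul_mul, hι, ofMul_pow]
    have h2 : e.symm (Multiplicative.toAdd (Multiplicative.ofAdd (e ⟨w, hw⟩))) = ⟨w, hw⟩ := by
      simp
    rw [h2, ← huw]
    congr 1
    exact (Cfsg.Agent.Lib.Fusion.SmallEssentialSL2.nsmul_val_smul (M := Additive Z) c _).symm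

theorem exists_compl (hZ : ∀ a : Z, a ^ p = 1) (z : Z) :
    ∃ (n : ℕ) (ι : Multiplicative (Fin n → ZMod p) →* Z), Function.Injective ι ∧
      (∀ m (k : ℕ), ι m = z ^ k → ι m = 1) ∧ ∀ a : Z, ∃ (k : ℕ) (m : _), a = z ^ k * ι m := by
  have hp0 : ∀ m : Additive Z, p • m = 0 := fun m => by
    show Additive.ofMul (m.toMul ^ p) = 0
    rw [hZ]
    rfl
  letI m : Module (ZMod p) (Additive Z) := AddCommGroup.zmodModule hp0
  exact exists_compl_mod z

end compl

section iso

variable {G : Type*} [Group G] [Finite G]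

/-- A `p`-element outside a subgroup containing `y ^ p`. -/
theorem pow_val_eq_zero_of_mem {C : Subgroup G} {y : G} (hy : y ^ p = 1) (hyC : y ∉ C) {b : ZMod p}
    (h : y ^ b.val ∈ C) : b = 0 := by
  by_contra hb
  apply hyC
  have hbv : b.val ≠ 0 := fun h0 => hb ((ZMod.val_eq_zero b).1 h0)
  have hcop : Nat.Coprime b.val p :=
    ((Nat.Prime.coprime_iff_not_dvd hp.out).2
      (fun hd => hbv (Nat.eq_zero_of_dvd_of_lt hd (ZMod.val_lt b)))).symm
  obtain ⟨s, -, hs⟩ := Nat.exists_mul_mod_eq_one_of_coprime hcop hp.out.one_lt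
  have h1 : y = (y ^ b.val) ^ s := by
    rw [← pow_mul, pow_eq_pow_mod (b.val * s) hy, hs, pow_one]
  rw [h1]
  exact pow_mem h s

theorem exists_equiv_heis {x y z : G}
    (hx : x ^ p = 1) (hy : y ^ p = 1) (hzp : z ^ p = 1) (hz : z ∈ center G) (hz1 : z ≠ 1) (h : y * x = z * x * y)
    (C : Subgroup G) (hCc : ∀ a ∈ C, ∀ b ∈ C, a * b = b * a) (hCp : ∀ a ∈ C, a ^ p = 1) (hxC : x ∈ C) (hzC : z ∈ C)
    (hyC : y ∉ C) (hg : ∀ g : G, ∃ i : ℕ, (y ^ i)⁻¹ * g ∈ C) (hk : ∀ c ∈ C, ∃ k : ℕ, y * c = z ^ k * c * y) :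
    ∃ n : ℕ, Nonempty (G ≃* Heis p × Multiplicative (Fin n → ZMod p)) := by
  classical
  have hne : NeZero p := ⟨hp.out.ne_zero⟩
  let Z₁ : Subgroup G := C ⊓ centralizer {y}
  letI cg : CommGroup Z₁ :=
    { (inferInstance : Group Z₁) with
      mul_comm := fun a b => Subtype.ext (hCc _ a.2.1 _ b.2.1) }
  have hzZ : z ∈ Z₁ := ⟨hzC, mem_centralizer_iff.2 (fun g _ => mem_center_iff.1 hz g)⟩
  obtain ⟨n, ι, hιinj, hιdisj, hιgen⟩ := exists_compl (p := p) (Z := Z₁)
    (fun a => Subtype.ext (hCp _ a.2.1)) (⟨z, hzZ⟩ : Z₁)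
  -- `ι` takes central values
  have hιc : ∀ m, ((ι m : Z₁) : G) ∈ center G := by
    intro m
    rw [mem_center_iff]
    intro g
    obtain ⟨i, hi⟩ := hg g
    have hwy : Commute y ((ι m : Z₁) : G) := mem_centralizer_iff.1 (ι m).2.2 y rfl
    have hwc : Commute ((y ^ i)⁻¹ * g) ((ι m : Z₁) : G) := hCc _ hi _ (ι m).2.1
    have h1 : g = y ^ i * ((y ^ i)⁻¹ * g) := by group
    rw [h1]
    exact (hwy.pow_left i).mul_left hwc
  refine ⟨n, ?_⟩
  let f : Heis p →* G := heisHom hx hy hzp hz h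
  let F : Heis p × Multiplicative (Fin n → ZMod p) →* G :=
    MonoidHom.noncommCoprod f (Z₁.subtype.comp ι) (fun u m => mem_center_iff.1 (hιc m) (f u))
  have hF : ∀ u m, F (u, m) = x ^ u.a.val * y ^ u.b.val * z ^ u.c.val * ((ι m : Z₁) : G) := fun u m => rfl
  have hordz : orderOf z = p := orderOf_eq_prime hzp hz1
  have hzval : ∀ c : ZMod p, z ^ c.val = 1 → c = 0 := by
    intro c hc
    have h1 := orderOf_dvd_of_pow_eq_one hc
    rw [hordz] at h1
    exact (ZMod.val_eq_zero c).1 (Nat.eq_zero_of_dvd_of_lt h1 (ZMod.val_lt c))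
  have hFinj : Function.Injective F := by
    rw [injective_iff_map_eq_one]
    rintro ⟨u, m⟩ hum
    rw [hF] at hum
    have hw := (ι m).2.1
    -- the `y`-coordinate
    have hb : u.b = 0 := by
      apply pow_val_eq_zero_of_mem hy hyC
      have h1 : y ^ u.b.val = (x ^ u.a.val)⁻¹ * (z ^ u.c.val * ((ι m : Z₁) : G))⁻¹ := by
        have h2 : x ^ u.a.val * y ^ u.b.val * (z ^ u.c.val * ((ι m : Z₁) : G)) = 1 := by
          rw [← hum]
          group
        calc y ^ u.b.val = (x ^ u.a.val)⁻¹ * (x ^ u.a.val * y ^ u.b.val * (z ^ u.c.val * ((ι m : Z₁) : G))) *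
              (z ^ u.c.val * ((ι m : Z₁) : G))⁻¹ := by group
          _ = _ := by rw [h2, mul_one]
      rw [h1]
      exact mul_mem (inv_mem (pow_mem hxC _)) (inv_mem (mul_mem (pow_mem hzC _) hw))
    rw [hb] at hum
    simp only [ZMod.val_zero, pow_zero, mul_one] at hum
    -- the central part
    have he : z ^ u.c.val * ((ι m : Z₁) : G) ∈ center G := mul_mem (pow_mem hz _) (hιc m)
    have hxa : x ^ u.a.val = (z ^ u.c.val * ((ι m : Z₁) : G))⁻¹ := by
      apply eq_inv_of_mul_eq_one_left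
      rw [← hum]
      group
    have hxc : x ^ u.a.val ∈ center G := by
      rw [hxa]
      exact inv_mem he
    have ha : u.a = 0 := by
      apply hzval
      have h1 := commute_relation hz h 1 u.a.val
      rw [pow_one, one_mul] at h1
      have h2 : y * x ^ u.a.val = x ^ u.a.val * y := mem_center_iff.1 hxc y
      rw [h2] at h1
      have h3 : (x ^ u.a.val * y) * (x ^ u.a.val * y)⁻¹ = (z ^ u.a.val * x ^ u.a.val * y) * (x ^ u.a.val * y)⁻¹ := by
        rw [← h1]
      simpa [mul_assoc] using h3.symm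
    rw [ha] at hum
    simp only [ZMod.val_zero, pow_zero, one_mul] at hum
    have hc1 : ι m = (⟨z, hzZ⟩ : Z₁) ^ ((p - 1) * u.c.val) := by
      apply Subtype.ext
      show ((ι m : Z₁) : G) = z ^ ((p - 1) * u.c.val)
      have h1 : z ^ ((p - 1) * u.c.val) * z ^ u.c.val = 1 := by
        rw [← pow_add]
        have : (p - 1) * u.c.val + u.c.val = p * u.c.val := by
          calc (p - 1) * u.c.val + u.c.val = ((p - 1) + 1) * u.c.val := by ring
            _ = p * u.c.val := by rw [Nat.sub_add_cancel hp.out.one_le]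
        rw [this, pow_mul, hzp, one_pow]
      have h2 : ((ι m : Z₁) : G) = (z ^ u.c.val)⁻¹ := eq_inv_of_mul_eq_one_right hum
      rw [h2]
      exact (eq_inv_of_mul_eq_one_left h1).symm
    have hm : ι m = 1 := hιdisj m _ hc1
    have hm1 : m = 1 := hιinj (by rw [hm, map_one])
    have hc : u.c = 0 := by
      apply hzval
      rw [hm] at hum
      simpa using hum
    have hu : u = 1 := by
      ext
      · exact ha
      · exact hb
      · exact hc
    rw [hu, hm1]
    rfl
  have hFsurj : Function.Surjective F := by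
    haveI : Fact (1 < p) := ⟨hp.out.one_lt⟩
    have hyR : y ∈ F.range := ⟨(⟨0, 1, 0⟩, 1), by
      rw [hF]
      simp [ZMod.val_one]⟩
    have hxR : x ∈ F.range := ⟨(⟨1, 0, 0⟩, 1), by
      rw [hF]
      simp [ZMod.val_one]⟩
    have hzR : z ∈ F.range := ⟨(⟨0, 0, 1⟩, 1), by
      rw [hF]
      simp [ZMod.val_one]⟩
    have hιR : ∀ m, ((ι m : Z₁) : G) ∈ F.range := fun m => ⟨(1, m), by
      rw [hF]
      simp⟩
    intro g
    obtain ⟨i, hi⟩ := hg g
    obtain ⟨k, hk'⟩ := hk _ hi
    set c := (y ^ i)⁻¹ * g with hc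
    have h1 := commute_relation hz h 1 k
    rw [pow_one, one_mul] at h1
    set X := x ^ k with hX
    set q := z ^ k with hq
    have hqc : q ∈ center G := pow_mem hz _
    have h2 : y * (X⁻¹ * c) = (X⁻¹ * c) * y := by
      have h3 : y * X⁻¹ = q⁻¹ * X⁻¹ * y := by
        have h4 : X⁻¹ * y * X = q * y := by
          calc X⁻¹ * y * X = X⁻¹ * (y * X) := by group
            _ = X⁻¹ * (q * X * y) := by rw [h1]
            _ = X⁻¹ * (X * q) * y := by
              rw [mem_center_iff.1 hqc X]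
              group
            _ = q * y := by group
        have h5 : y = q⁻¹ * (X⁻¹ * y * X) := by
          rw [h4]
          group
        calc y * X⁻¹ = q⁻¹ * (X⁻¹ * y * X) * X⁻¹ := by rw [← h5]
          _ = _ := by group
      calc y * (X⁻¹ * c) = y * X⁻¹ * c := by group
        _ = q⁻¹ * X⁻¹ * y * c := by rw [h3]
        _ = q⁻¹ * X⁻¹ * (y * c) := by group
        _ = q⁻¹ * X⁻¹ * (q * c * y) := by rw [hk']
        _ = (q⁻¹ * (X⁻¹ * q)) * c * y := by group
        _ = (q⁻¹ * (q * X⁻¹)) * c * y := by rw [mem_center_iff.1 hqc X⁻¹]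
        _ = _ := by group
    have hcC : X⁻¹ * c ∈ C := C.mul_mem (C.inv_mem (C.pow_mem hxC _)) hi
    have hc' : X⁻¹ * c ∈ Z₁ := ⟨hcC, mem_centralizer_iff.2 (fun a ha => by
      rw [Set.mem_singleton_iff] at ha
      rw [ha]
      exact h2)⟩
    obtain ⟨l, m, hlm⟩ := hιgen ⟨_, hc'⟩
    have hlm' : X⁻¹ * c = z ^ l * ((ι m : Z₁) : G) := congrArg Subtype.val hlm
    have hg' : g = y ^ i * (X * (z ^ l * ((ι m : Z₁) : G))) := by
      rw [← hlm']
      rw [hc]
      group
    have : g ∈ F.range := by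
      rw [hg']
      exact mul_mem (pow_mem hyR _) (mul_mem (pow_mem hxR _) (mul_mem (pow_mem hzR _) (hιR m)))
    exact this
  exact ⟨(MulEquiv.ofBijective F ⟨hFinj, hFsurj⟩).symm⟩

end iso

section word

theorem sl2_word {R : Type*} [Ring R] {N B : R} (h1 : N * N = 0) (h2 : B * B = 0) (h3 : N * B * N = N)
    (h4 : B * N * B = B) : ((1 + N) * (1 - B) * (1 + N)) ^ 2 = 1 - 2 * (N * B + B * N) := by
  have hw : (1 + N) * (1 - B) * (1 + N) = 1 + N - B - N * B - B * N := by
    have e : (1 + N) * (1 - B) * (1 + N) = 1 + N - B - N * B + N - B * N + N * N - N * B * N := by noncomm_ring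
    rw [e, h1, h3]
    abel
  rw [hw, sq]
  have h3' : ∀ x : R, N * (B * (N * x)) = N * x := fun x => by
    rw [← mul_assoc, ← mul_assoc, h3]
  have h4' : ∀ x : R, B * (N * (B * x)) = B * x := fun x => by
    rw [← mul_assoc, ← mul_assoc, h4]
  have h1' : ∀ x : R, N * (N * x) = 0 := fun x => by
    rw [← mul_assoc, h1, zero_mul]
  have h2' : ∀ x : R, B * (B * x) = 0 := fun x => by
    rw [← mul_assoc, h2, zero_mul]
  have h3'' : N * (B * N) = N := by rw [← mul_assoc, h3]
  have h4'' : B * (N * B) = B := by rw [← mul_assoc, h4]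
  simp only [mul_add, add_mul, mul_sub, sub_mul, mul_assoc, mul_one, one_mul, h1, h2, h1', h2', h3'', h4'', h3', h4',
    zero_mul, mul_zero]
  noncomm_ring

theorem sl2_comm {R : Type*} [Ring R] {A N : R} (hL : A * N = N) (hR : N * A = N) :
    (1 - 2 * A) * (1 + N) = (1 + N) * (1 - 2 * A) := by
  rw [two_mul]
  simp only [sub_mul, mul_sub, add_mul, mul_add, one_mul, mul_one, hL, hR]
  abel

variable {V : Type*} [CommGroup V] [Finite V]

open Cfsg.Agent.Lib.Fusion.SmallEssentialSL2 in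
theorem exists_inversion_word_mod [Module (ZMod p) (Additive V)] (α φ : MulAut V) (z v : V)
    (h1 : ∀ r, ∃ k : ℕ, α r = r * z ^ k) (h2 : α z = z) (h3 : φ v = z) (h4 : α v ≠ v) (h5 : α (φ z) ≠ φ z) :
    ∃ ι ∈ closure ({α, φ} : Set (MulAut V)), ι z = z⁻¹ ∧ ι * α = α * ι := by
  classical
  let X : Module.End (ZMod p) (Additive V) := toEnd p V α
  let P : Module.End (ZMod p) (Additive V) := toEnd p V φ
  let P' : Module.End (ZMod p) (Additive V) := toEnd p V φ⁻¹
  have hPP' : P' * P = 1 := by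
    show toEnd p V φ⁻¹ * toEnd p V φ = 1
    rw [← map_mul, inv_mul_cancel, map_one]
  let ez : Additive V := Additive.ofMul z
  let ev : Additive V := Additive.ofMul v
  let n₁ : Module.End (ZMod p) (Additive V) := X - 1
  let n₂ : Module.End (ZMod p) (Additive V) := P' * n₁ * P
  have hn1 : ∀ r, ∃ c : ZMod p, n₁ r = c • ez := by
    intro r
    obtain ⟨k, hk⟩ := h1 r.toMul
    refine ⟨(k : ZMod p), ?_⟩
    have : X r = r + k • ez := congrArg Additive.ofMul hk
    show X r - r = _
    rw [this, add_sub_cancel_left, Nat.cast_smul_eq_nsmul]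
  have hn1z : n₁ ez = 0 := by
    show X ez - ez = 0
    have : X ez = ez := congrArg Additive.ofMul h2
    rw [this, sub_self]
  have hPv : P ev = ez := congrArg Additive.ofMul h3
  have hP'z : P' ez = ev := by
    have := congrArg (fun f : Module.End (ZMod p) (Additive V) => f ev) hPP'
    simp only [Module.End.mul_apply, hPv, Module.End.one_apply] at this
    exact this
  obtain ⟨a, ha⟩ := hn1 ev
  have ha0 : a ≠ 0 := by
    rintro rfl
    apply h4
    rw [zero_smul] at ha
    have h6 : X ev - ev = 0 := ha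
    exact Additive.ofMul.injective (sub_eq_zero.1 h6)
  obtain ⟨b, hb⟩ := hn1 (P ez)
  have hb0 : b ≠ 0 := by
    rintro rfl
    apply h5
    rw [zero_smul] at hb
    have h6 : X (P ez) - P ez = 0 := hb
    exact Additive.ofMul.injective (sub_eq_zero.1 h6)
  have hn2 : ∀ r, ∃ c : ZMod p, n₂ r = c • ev := by
    intro r
    obtain ⟨c, hc⟩ := hn1 (P r)
    refine ⟨c, ?_⟩
    show P' (n₁ (P r)) = _
    rw [hc, map_smul, hP'z]
  have hn2v : n₂ ev = 0 := by
    show P' (n₁ (P ev)) = 0
    rw [hPv, hn1z, map_zero]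
  have hn2z : n₂ ez = b • ev := by
    show P' (n₁ (P ez)) = _
    rw [hb, map_smul, hP'z]
  let s : ZMod p := (a * b)⁻¹
  have hs : s * (a * b) = 1 := inv_mul_cancel₀ (mul_ne_zero ha0 hb0)
  let N : Module.End (ZMod p) (Additive V) := s • n₁
  have hN : ∀ r, ∃ c : ZMod p, n₁ r = c • ez ∧ N r = (s * c) • ez := by
    intro r
    obtain ⟨c, hc⟩ := hn1 r
    refine ⟨c, hc, ?_⟩
    show s • n₁ r = _
    rw [hc, smul_smul]
  have hNz : N ez = 0 := by
    show s • n₁ ez = 0
    rw [hn1z, smul_zero]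
  have hNv : N ev = (s * a) • ez := by
    show s • n₁ ev = _
    rw [ha, smul_smul]
  have e1 : N * N = 0 := by
    ext r
    obtain ⟨c, -, hc⟩ := hN r
    show N (N r) = 0
    rw [hc, map_smul, hNz, smul_zero]
  have e2 : n₂ * n₂ = 0 := by
    ext r
    obtain ⟨c, hc⟩ := hn2 r
    show n₂ (n₂ r) = 0
    rw [hc, map_smul, hn2v, smul_zero]
  have e3 : N * n₂ * N = N := by
    ext r
    obtain ⟨c, -, hc⟩ := hN r
    show N (n₂ (N r)) = N r
    rw [hc, map_smul, hn2z, map_smul, map_smul, hNv, smul_smul, smul_smul]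
    congr 1
    calc s * c * b * (s * a) = (s * (a * b)) * (s * c) := by ring
      _ = s * c := by rw [hs, one_mul]
  have e4 : n₂ * N * n₂ = n₂ := by
    ext r
    obtain ⟨c, hc⟩ := hn2 r
    show n₂ (N (n₂ r)) = n₂ r
    rw [hc, map_smul, hNv, map_smul, map_smul, hn2z, smul_smul, smul_smul]
    congr 1
    calc c * (s * a) * b = (s * (a * b)) * c := by ring
      _ = c := by rw [hs, one_mul]
  have hn1N : n₁ = (a * b) • N := by
    show n₁ = (a * b) • (s • n₁)
    rw [smul_smul, mul_comm, hs, one_smul]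
  have hn1sq : n₁ * n₁ = 0 := by
    ext r
    obtain ⟨c, hc⟩ := hn1 r
    show n₁ (n₁ r) = 0
    rw [hc, map_smul, hn1z, smul_zero]
  -- powers of `X`
  have hXpow : ∀ k : ℕ, X ^ k = 1 + (k : ZMod p) • n₁ := by
    intro k
    have hX : X = 1 + n₁ := by
      show X = 1 + (X - 1)
      abel
    induction k with
    | zero => simp
    | succ k ih =>
      have h6 : (1 + (k : ZMod p) • n₁) * (1 + n₁) = 1 + ((k : ZMod p) + 1) • n₁ := by
        rw [mul_add, mul_one, add_mul, one_mul, smul_mul_assoc, hn1sq, smul_zero, add_smul, one_smul]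
        abel
      rw [pow_succ, ih]
      nth_rewrite 1 [hX]
      rw [h6]
      push_cast
      rfl
  let i : ℕ := s.val
  have hi : X ^ i = 1 + N := by
    rw [hXpow]
    congr 1
    show ((s.val : ℕ) : ZMod p) • n₁ = s • n₁
    rw [ZMod.natCast_val, ZMod.cast_id', id]
  -- the word
  let y₀ : MulAut V := φ⁻¹ * α * φ
  have hy₀ : toEnd p V y₀ = 1 + n₂ := by
    show toEnd p V (φ⁻¹ * α * φ) = 1 + P' * (X - 1) * P
    rw [map_mul, map_mul, mul_sub, sub_mul, mul_one, hPP']
    show P' * X * P = _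
    abel
  have hy₀inv : toEnd p V y₀⁻¹ = 1 - n₂ := by
    have h6 : toEnd p V y₀⁻¹ * (1 + n₂) = 1 := by
      rw [← hy₀, ← map_mul, inv_mul_cancel, map_one]
    have h7 : (1 + n₂) * (1 - n₂) = 1 := by
      rw [mul_sub, mul_one, add_mul, one_mul, e2]
      abel
    calc toEnd p V y₀⁻¹ = toEnd p V y₀⁻¹ * ((1 + n₂) * (1 - n₂)) := by rw [h7, mul_one]
      _ = _ := by rw [← mul_assoc, h6, one_mul]
  let w : MulAut V := α ^ i * y₀⁻¹ * α ^ i
  have hw : toEnd p V (w ^ 2) = 1 - 2 * (N * n₂ + n₂ * N) := by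
    rw [← sl2_word e1 e2 e3 e4]
    show toEnd p V ((α ^ i * y₀⁻¹ * α ^ i) ^ 2) = _
    rw [map_pow, map_mul, map_mul, map_pow, hy₀inv]
    show (X ^ i * (1 - n₂) * X ^ i) ^ 2 = _
    rw [hi]
  have hαmem : α ∈ closure ({α, φ} : Set (MulAut V)) := subset_closure (by simp)
  have hφmem : φ ∈ closure ({α, φ} : Set (MulAut V)) := subset_closure (by simp)
  refine ⟨w ^ 2, ?_, ?_, ?_⟩
  · exact pow_mem (mul_mem (mul_mem (pow_mem hαmem _) (inv_mem (mul_mem (mul_mem (inv_mem hφmem) hαmem) hφmem)))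
      (pow_mem hαmem _)) _
  · have h6 : toEnd p V (w ^ 2) ez = - ez := by
      rw [hw]
      show ez - (2 * (N * n₂ + n₂ * N)) ez = - ez
      have h7 : (N * n₂ + n₂ * N) ez = ez := by
        show N (n₂ ez) + n₂ (N ez) = ez
        rw [hn2z, hNz, map_zero, add_zero, map_smul, hNv, smul_smul]
        have : b * (s * a) = 1 := by
          calc b * (s * a) = s * (a * b) := by ring
            _ = 1 := hs
        rw [this, one_smul]
      rw [two_mul, LinearMap.add_apply, h7]
      abel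
    exact Additive.ofMul.injective h6
  · apply toEnd_injective (p := p)
    rw [map_mul, map_mul, hw]
    show (1 - 2 * (N * n₂ + n₂ * N)) * X = X * (1 - 2 * (N * n₂ + n₂ * N))
    have hX : X = 1 + (a * b) • N := by
      rw [← hn1N]
      show X = 1 + (X - 1)
      abel
    have hL : (N * n₂ + n₂ * N) * N = N := by
      rw [add_mul, e3, mul_assoc n₂, e1, mul_zero, add_zero]
    have hR : N * (N * n₂ + n₂ * N) = N := by
      rw [mul_add, ← mul_assoc, e1, zero_mul, zero_add, ← mul_assoc, e3]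
    rw [hX]
    exact sl2_comm (by rw [mul_smul_comm, hL]) (by rw [smul_mul_assoc, hR])

theorem exists_inversion_word (hV : ∀ a : V, a ^ p = 1) (α φ : MulAut V) (z v : V)
    (h1 : ∀ r, ∃ k : ℕ, α r = r * z ^ k) (h2 : α z = z) (h3 : φ v = z) (h4 : α v ≠ v) (h5 : α (φ z) ≠ φ z) :
    ∃ ι ∈ closure ({α, φ} : Set (MulAut V)), ι z = z⁻¹ ∧ ι * α = α * ι := by
  have hp0 : ∀ m : Additive V, p • m = 0 := fun m => by
    show Additive.ofMul (m.toMul ^ p) = 0
    rw [hV]
    rfl
  letI m : Module (ZMod p) (Additive V) := AddCommGroup.zmodModule hp0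
  exact exists_inversion_word_mod (p := p) α φ z v h1 h2 h3 h4 h5

end word

end Cfsg.Agent.Lib.H29.StrongExtraA
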