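import Cfsg.Agent.Lib.H29.StrongMetaA
import Cfsg.Agent.Lib.FusionTheory.Normal

/-!
# Strongly closed metacyclic subgroups, `p` odd, lie in every essential subgroup
-/

set_option autoImplicit false

namespace Cfsg.Agent.Lib.H29.StrongMeta

open Subgroup
open Cfsg Cfsg.FusionSystem Cfsg.Agent.Lib.Fusion.Basic Cfsg.Agent.Lib.Fusion.Saturation
open Cfsg.Agent.Lib.FusionTheory.Chain Cfsg.Agent.Lib.FusionTheory.CoprimeAut
open Cfsg.Agent.Lib.Fusion.Alperin Cfsg.Agent.Lib.FusionTheory.Normal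
open Cfsg.Agent.Lib.Fusion.SmallEssential Cfsg.Agent.Lib.H29.StrongMetaA

universe u

/-- Restriction of a group of automorphisms to an invariant subgroup. -/
def resHom {V : Type*} [Group V] (X : Subgroup (MulAut V)) (D : Subgroup V) (h : ∀ β ∈ X, ∀ d ∈ D, β d ∈ D) :
    X →* MulAut D where
  toFun β := restrictAut (β : MulAut V) D (h β β.2) (h _ (X.inv_mem β.2))
  map_one' := by
    ext x
    rfl
  map_mul' a b := by
    ext x
    rfl

theorem resHom_apply {V : Type*} [Group V] (X : Subgroup (MulAut V)) (D : Subgroup V)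
    (h : ∀ β ∈ X, ∀ d ∈ D, β d ∈ D) (β : X) (d : D) : ((resHom X D h β d : D) : V) = (β : MulAut V) d := rfl

variable {Ω : Type u} [Group Ω] {S : Subgroup Ω} [Finite S] {p : ℕ} [hp : Fact p.Prime]

/-- **Key theorem.** A strongly closed metacyclic subgroup (`p` odd) has its normalizing elements inside every
essential subgroup. -/
theorem mem_of_mem_of_normalizer (hp2 : p ≠ 2) (hS : IsPGroup p S) (F : FusionSystem S) (hF : F.IsSaturated p)
    {P : Subgroup Ω} (hP : F.StronglyClosed P) (hm : Cfsg.IsMetacyclic P) {E : Subgroup Ω} (hE : F.IsEssential p E)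
    {s : Ω} (hsP : s ∈ P) (hsn : s ∈ normalizer (E : Set Ω)) : s ∈ E := by
  classical
  by_contra hsE
  have hES : E ≤ S := hE.1.1
  have hfE : Finite E := finite_of_le hES
  have hPS := hP.1
  have hsS := hPS hsP
  have hEp : IsPGroup p E := hS.to_le hES
  let X : Subgroup (MulAut E) := F.autGroup E
  let R' : Subgroup E := P.subgroupOf E
  have hinv : ∀ β ∈ X, ∀ d ∈ R', β d ∈ R' := fun β hβ d hd => StronglyClosed.aut_mem F hP hES hβ hd
  let res : X →* MulAut R' := resHom X R' hinv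
  have hR'p : IsPGroup p R' := hEp.to_subgroup R'
  have hR'm : Cfsg.IsMetacyclic R' := by
    have h1 : Cfsg.IsMetacyclic ↥(P ⊓ E) :=
      Cfsg.Agent.Lib.Coprime.MetaAction.isMetacyclic_of_le inf_le_left hm
    refine Cfsg.Agent.Lib.Coprime.MetaAction.isMetacyclic_of_surjective
      { toFun := fun x => ⟨⟨x.1, x.2.2⟩, x.2.1⟩
        map_one' := rfl
        map_mul' := fun _ _ => rfl } ?_ h1
    rintro ⟨⟨x, hxE⟩, hxP⟩
    exact ⟨⟨x, hxP, hxE⟩, rfl⟩
  let c : X := ⟨normAct E hsn, normAct_mem_autGroup F hES hsS hsn⟩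
  let f : X →* MulAut (↥R' ⧸ frattini ↥R') := (fratHom (V := R')).comp res
  -- `c` is a `p`-element
  obtain ⟨k, hk⟩ : ∃ k : ℕ, c ^ p ^ k = 1 := by
    obtain ⟨k, hk⟩ := hS ⟨s, hsS⟩
    refine ⟨k, ?_⟩
    have hc : c = normToAut F hES ⟨s, hsS, hsn⟩ := rfl
    rw [hc, ← map_pow]
    have hk' : s ^ p ^ k = 1 := by
      simpa using congrArg Subtype.val hk
    have : (⟨s, hsS, hsn⟩ : normalizerIn S E) ^ p ^ k = 1 := by
      apply Subtype.ext
      simpa using hk'
    rw [this, map_one]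
  -- Step 1
  have h1 : ∃ g : X, f (g * c * g⁻¹) ∉ zpowers (f c) := by
    by_contra hcon
    push Not at hcon
    apply hsE
    have hsec : ∀ x : E, x⁻¹ * (c : MulAut E) x ∈ R' := by
      intro x
      show ((x : Ω))⁻¹ * (s * x * s⁻¹) ∈ P
      have h2 : ((x : Ω))⁻¹ * s * ((x : Ω))⁻¹⁻¹ ∈ P :=
        StronglyClosed.conj_mem F hP (S.inv_mem (hES x.2)) hsP
      have h3 : ((x : Ω))⁻¹ * (s * x * s⁻¹) = ((x : Ω))⁻¹ * s * ((x : Ω))⁻¹⁻¹ * s⁻¹ := by group
      rw [h3]
      exact P.mul_mem h2 (P.inv_mem hsP)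
    have hT0 : IsTower p X (c : MulAut E) R' := by
      refine ⟨((zpowers (f c)).comap f).map X.subtype, map_subtype_le _, ?_, ⟨c, mem_zpowers _, rfl⟩, ?_⟩
      · rintro ρ hρ _ ⟨τ, hτ, rfl⟩
        refine ⟨⟨ρ, hρ⟩ * τ * ⟨ρ, hρ⟩⁻¹, ?_, rfl⟩
        obtain ⟨n, hn⟩ := hτ
        show f _ ∈ zpowers (f c)
        rw [map_mul, map_mul, map_inv]
        have hn' : f τ = f c ^ n := hn.symm
        rw [hn']
        have h2 : f ⟨ρ, hρ⟩ * f c ^ n * (f ⟨ρ, hρ⟩)⁻¹ = (f ⟨ρ, hρ⟩ * f c * (f ⟨ρ, hρ⟩)⁻¹) ^ n := (conj_zpow).symm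
        rw [h2, ← map_inv, ← map_mul, ← map_mul]
        exact zpow_mem (hcon _) n
      · rintro _ ⟨τ, hτ, rfl⟩ hcop x hx
        have hcop' : (orderOf τ).Coprime p := by
          rwa [← Subgroup.orderOf_coe]
        obtain ⟨n, hn⟩ := hτ
        have hn' : f τ = f c ^ n := hn.symm
        have h2 : f τ ^ p ^ k = 1 := by
          rw [hn', ← zpow_natCast, ← zpow_mul, mul_comm, zpow_mul, zpow_natCast, ← map_pow, hk, map_one, one_zpow]
        have h3 : f τ ^ orderOf τ = 1 := by
          rw [← map_pow, pow_orderOf_eq_one, map_one]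
        have h4 : orderOf (f τ) = 1 := Nat.eq_one_of_dvd_coprimes (hcop'.pow_right k)
          (orderOf_dvd_of_pow_eq_one h3) (orderOf_dvd_of_pow_eq_one h2)
        have h6 : fratHom (res τ) = 1 := orderOf_eq_one_iff.1 h4
        have h5 : res τ = 1 := eq_one_of_fratHom hR'p h6
          (Nat.Coprime.coprime_dvd_left (orderOf_map_dvd res τ) hcop')
        exact congrArg (fun β : MulAut R' => ((β ⟨x, hx⟩ : R') : E)) h5
    have hT1 : IsTower p X (c : MulAut E) ⊤ :=
      isTower_step hEp hT0 hinv (fun _ _ _ _ => mem_top _) (fun x _ => hsec x)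
    refine mem_of_isEssential_of_isTower F hS hE hsS hsn hT1 (fun τ _ _ h => ?_)
    ext x
    exact congrArg _ (h x (mem_top x))
  obtain ⟨g, hg⟩ := h1
  have ha1 : f c ≠ 1 := by
    intro h
    apply hg
    rw [map_mul, map_mul, map_inv, h, mul_one, mul_inv_cancel]
    exact one_mem _
  have hb : (g * c * g⁻¹) ^ p ^ k = 1 := by
    rw [conj_pow, hk]
    simp
  obtain ⟨hcard, g₀, hg₀⟩ := exists_inversion_frat hR'p hR'm res hk hb ha1 hg
  -- `f g₀` acts as inversion
  have hinvq : ∀ v, f g₀ v = v⁻¹ := by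
    intro v
    obtain ⟨w, rfl⟩ := QuotientGroup.mk_surjective v
    have h2 : ((res g₀ w * w : R') : ↥R' ⧸ frattini ↥R') = 1 := (QuotientGroup.eq_one_iff _).2 (hg₀ w)
    rw [QuotientGroup.mk_mul] at h2
    exact eq_inv_of_mul_eq_one_left h2
  have hz : ∀ l : MulAut (↥R' ⧸ frattini ↥R'), f g₀ * l = l * f g₀ := by
    intro l
    ext v
    simp only [MulAut.mul_apply]
    rw [hinvq, hinvq, map_inv]
  -- Frattini argument
  obtain ⟨W₀, hW₀⟩ := (isFullyAutomized_of_isFullyNormalized F hS hF hE.2.1).2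
  obtain ⟨g₁, hg₁n, hg₁⟩ := exists_mem_normalizer_of_central f W₀ g₀ hz
  rw [hW₀] at hg₁n
  -- extension
  have hext : normalizerIn S E ≤ extender S E (autHom (g₁ : MulAut E)) := by
    intro u hu
    have hu1 : normAct E hu.2 ∈ autInducedBy S E := normAct_mem_autInducedBy S E hu.2 hu.1
    have hu2 : (⟨normAct E hu.2, autInducedBy_le_autGroup F hES hu1⟩ : X) ∈
        (autInducedBy S E).subgroupOf (F.autGroup E) := hu1
    have hu3 := (mem_normalizer_iff.1 hg₁n _).1 hu2
    obtain ⟨h, hh, hhc⟩ := (mem_autInducedBy_iff S E _).1 hu3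
    refine mem_extender_of _ hu.1 hu.2 hh (fun x => ?_)
    have h2 := hhc ((g₁ : MulAut E) x)
    have key : (((g₁ * ⟨normAct E hu.2, autInducedBy_le_autGroup F hES hu1⟩ * g₁⁻¹ : X) : MulAut E)
        ((g₁ : MulAut E) x) : E) = (g₁ : MulAut E) (normAct E hu.2 x) := by
      simp [MulAut.mul_apply]
    have h3 : (((g₁ : MulAut E) (normAct E hu.2 x) : E) : Ω) = h * (((g₁ : MulAut E) x : E) : Ω) * h⁻¹ := by
      rw [← key]
      exact h2
    exact h3
  obtain ⟨ψ, hψ, hψext⟩ := IsReceptive.exists_extension F (isReceptive_of_isFullyNormalized F hS hF hE.2.1)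
    (autHom_mem F hES g₁.2) (autHom_range _) hext (le_normalizerIn hES)
  -- the subgroup `T = N_P(E)`
  let N : Subgroup Ω := normalizerIn S E
  let T : Subgroup Ω := P ⊓ N
  have hTS : T ≤ S := inf_le_left.trans hPS
  have hfT : Finite T := finite_of_le hTS
  have hTp : IsPGroup p T := hS.to_le hTS
  have hTm : Cfsg.IsMetacyclic T := Cfsg.Agent.Lib.Coprime.MetaAction.isMetacyclic_of_le inf_le_left hm
  have hψP : ∀ t : T, ψ ⟨t, t.2.2⟩ ∈ P := fun t =>
    hP.2 T inf_le_left (ψ.comp (Subgroup.inclusion inf_le_right)) (restrict_mem F inf_le_right hψ) t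
  have hψN : ∀ u : N, ψ u ∈ N := fun u =>
    ⟨val_mem F hψ u, extension_mem_normalizer (autHom_range _) (le_normalizerIn hES) hψext inf_le_right u⟩
  let fT : T →* T :=
    { toFun := fun t => ⟨ψ ⟨t, t.2.2⟩, hψP t, hψN _⟩
      map_one' := Subtype.ext (map_one ψ)
      map_mul' := fun a b => Subtype.ext (map_mul ψ ⟨a, a.2.2⟩ ⟨b, b.2.2⟩) }
  have hfTinj : Function.Injective fT := by
    intro a b hab
    have h2 := F.injective_of_mem hψ (congrArg Subtype.val hab)
    exact Subtype.ext (congrArg (fun y : N => (y : Ω)) h2)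
  let β₀ : MulAut T := MulEquiv.ofBijective fT (Finite.injective_iff_bijective.1 hfTinj)
  have hfA : Finite (MulAut T) := Finite.of_injective (fun e : MulAut T => (e : T → T)) DFunLike.coe_injective
  obtain ⟨a, m, hmn, hom⟩ := Nat.exists_eq_pow_mul_and_not_dvd (orderOf_pos β₀).ne' p hp.out.ne_one
  let β : MulAut T := β₀ ^ p ^ a
  have hβ : (orderOf β).Coprime p := by
    have hdvd : p ^ a ∣ orderOf β₀ := ⟨m, hom⟩
    rw [orderOf_pow_of_dvd (pow_ne_zero _ hp.out.ne_zero) hdvd, hom,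
      Nat.mul_div_cancel_left _ (pow_pos hp.out.pos _)]
    exact ((Nat.Prime.coprime_iff_not_dvd hp.out).2 hmn).symm
  -- the embedding of `R'` in `T`
  let iRT : R' →* T :=
    { toFun := fun r => ⟨r.1.1, r.2, le_normalizerIn hES r.1.2⟩
      map_one' := rfl
      map_mul' := fun _ _ => rfl }
  have hiRT : Function.Injective iRT := by
    intro x y hxy
    exact Subtype.ext (Subtype.ext (congrArg (fun t : T => (t : Ω)) hxy))
  have hβ₀ : ∀ (n : ℕ) (r : R'), (β₀ ^ n) (iRT r) = iRT (res (g₁ ^ n) r) := by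
    intro n
    induction n with
    | zero =>
      intro r
      rw [pow_zero, pow_zero, map_one]
      rfl
    | succ n ih =>
      intro r
      rw [pow_succ', pow_succ', map_mul]
      show β₀ ((β₀ ^ n) (iRT r)) = iRT (res g₁ (res (g₁ ^ n) r))
      rw [ih]
      apply Subtype.ext
      exact hψext (res (g₁ ^ n) r : E)
  -- `γ = res (g₁ ^ p ^ a)` inverts the Frattini quotient
  let γ : MulAut R' := res (g₁ ^ p ^ a)
  have hγ : ∀ w, γ w * w ∈ frattini ↥R' := by
    intro w
    have hodd : Odd (p ^ a) := (hp.out.odd_of_ne_two hp2).pow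
    obtain ⟨e, he⟩ := hodd
    have h2 : f g₁ ^ 2 = 1 := by
      ext v
      rw [hg₁, sq, MulAut.mul_apply, hinvq, hinvq, inv_inv]
      rfl
    have h3 : f (g₁ ^ p ^ a) = f g₀ := by
      rw [map_pow, he, pow_succ, pow_mul, h2, one_pow, one_mul, hg₁]
    have h4 : ((γ w : R') : ↥R' ⧸ frattini ↥R') = (w : ↥R' ⧸ frattini ↥R')⁻¹ := by
      have h5 : f (g₁ ^ p ^ a) (w : ↥R' ⧸ frattini ↥R') = f g₀ (w : ↥R' ⧸ frattini ↥R') := by rw [h3]
      rw [hinvq] at h5
      exact h5
    rw [← QuotientGroup.eq_one_iff, QuotientGroup.mk_mul, h4, inv_mul_cancel]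
  have hγT : ∀ w, iRT (γ w) = β (iRT w) := fun w => (hβ₀ (p ^ a) w).symm
  by_cases hcomm : IsMulCommutative T
  · -- `T` abelian: `c` trivial on `R'`
    apply ha1
    have h2 : res c = 1 := by
      ext w
      have hsT : s ∈ T := ⟨hsP, hsS, hsn⟩
      have h3 := hcomm.is_comm.comm (⟨s, hsT⟩ : T) (iRT w)
      have h4 : s * ((w : E) : Ω) = ((w : E) : Ω) * s := congrArg Subtype.val h3
      show s * ((w : E) : Ω) * s⁻¹ = ((w : E) : Ω)
      rw [h4]
      group
    show fratHom (res c) = 1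
    rw [h2, map_one]
  · obtain ⟨X₀, hX₀c, hX₀⟩ := exists_cyclic_comm hp2 hTp hTm β hβ hcomm
    have hZ : (X₀.comap iRT) = ⊤ := by
      apply eq_top_of_inversion hp2 hR'p γ hγ
      intro w
      rw [mem_comap, map_mul, map_inv, hγT]
      exact hX₀ _
    -- `R'` is cyclic
    have hRc : IsCyclic R' := by
      let e : R' →* X₀ :=
        { toFun := fun r => ⟨iRT r, by
            have : r ∈ X₀.comap iRT := by rw [hZ]; exact mem_top r
            exact this⟩
          map_one' := Subtype.ext (map_one iRT)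
          map_mul' := fun a b => Subtype.ext (map_mul iRT a b) }
      apply isCyclic_of_injective e
      intro a b hab
      exact hiRT (congrArg Subtype.val hab)
    have hQc : IsCyclic (↥R' ⧸ frattini ↥R') :=
      isCyclic_of_surjective (QuotientGroup.mk' _) (QuotientGroup.mk'_surjective _)
    obtain ⟨q, hq⟩ := hQc.exists_generator
    have h2 : Nat.card (↥R' ⧸ frattini ↥R') = orderOf q := by
      rw [← Nat.card_zpowers, (Subgroup.eq_top_iff' _).2 hq, Nat.card_congr Subgroup.topEquiv.toEquiv]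
    have h3 : orderOf q ∣ p := orderOf_dvd_of_pow_eq_one (frat_pow hR'p q)
    rw [← h2, hcard] at h3
    have h4 := Nat.le_of_dvd hp.out.pos h3
    have h5 : p < p ^ 2 := by
      rw [sq]
      exact lt_mul_of_one_lt_left hp.out.pos hp.out.one_lt
    omega

/-- A strongly closed subgroup lying in all essential subgroups is normal in the system. -/
theorem isNormal_of_stronglyClosed_of_le (hS : IsPGroup p S) (F : FusionSystem S) (hF : F.IsSaturated p)
    {P : Subgroup Ω} (hP : F.StronglyClosed P) (h : ∀ E : Subgroup Ω, F.IsEssential p E → P ≤ E) : F.IsNormal P := by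
  refine isNormal_of_invariant F hS hF hP.1 (fun E hE => ?_)
  have hES : E ≤ S := by
    rcases hE with rfl | hE
    · exact le_rfl
    · exact hE.1.1
  refine ⟨?_, fun α hα x hx => StronglyClosed.aut_mem F hP hES hα hx⟩
  rcases hE with rfl | hE
  · exact hP.1
  · exact h E hE

/-- **S5234**: strongly closed metacyclic subgroups are normal, for `p` odd. -/
theorem isNormal_of_metacyclic (hp2 : p ≠ 2) (hS : IsPGroup p S) (F : FusionSystem S) (hF : F.IsSaturated p)
    {P : Subgroup Ω} (hP : F.StronglyClosed P) (hm : Cfsg.IsMetacyclic P) : F.IsNormal P := by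
  refine isNormal_of_stronglyClosed_of_le hS F hF hP (fun E hE => ?_)
  refine le_of_normalizer_le hS hP.1 (StronglyClosed.le_normalizer F hP) hE.1.1 (fun s hs hsn => ?_)
  exact mem_of_mem_of_normalizer hp2 hS F hF hP hm hE hs hsn

end Cfsg.Agent.Lib.H29.StrongMeta
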