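import Cfsg.Agent.Lib.PGroups.MetacyclicAut
import Cfsg.Agent.Lib.PGroups.Presentations
import Cfsg.Prelude.Def_CaseTheorems
import Cfsg.Agent.Lib.Metacyclic.Basic

/-!
# Metacyclic 2-groups with a subgroup on whose Frattini quotient an outer involution acts

If a metacyclic 2-group `G` contains a subgroup `R` (a quaternion group or homocyclic) and `t ∉ R` normalizing `R`,
with `t² ∈ R`, acting nontrivially on the Frattini quotient of `R`, then `G` is dihedral, quaternion or semidihedral.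
-/

set_option autoImplicit false

namespace Cfsg.Agent.Lib.H29.StrongMetaTwoA

open Subgroup
open Cfsg.Agent.Lib.PGroups.Presentations

variable {G : Type*} [Group G] [Finite G]

theorem eq_one_of_odd_zpow (hG : IsPGroup 2 G) {x : G} {m : ℤ} (hm : Odd m) (h : x ^ m = 1) : x = 1 := by
  obtain ⟨k, hk⟩ := hG x
  have h1 : (orderOf x : ℤ) ∣ m := orderOf_dvd_iff_zpow_eq_one.2 h
  have h2 : orderOf x ∣ 2 ^ k := orderOf_dvd_of_pow_eq_one hk
  obtain ⟨i, -, hi⟩ := (Nat.dvd_prime_pow Nat.prime_two).1 h2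
  rcases Nat.eq_zero_or_pos i with rfl | hipos
  · simpa using hi
  · exfalso
    have h3 : (2 : ℤ) ∣ (orderOf x : ℤ) := by
      rw [hi]
      push_cast
      exact dvd_pow_self _ hipos.ne'
    have h4 : (2 : ℤ) ∣ m := h3.trans h1
    exact (Int.not_even_iff_odd.2 hm) (even_iff_two_dvd.2 h4)

theorem eq_one_of_mem_zpowers_sq (hG : IsPGroup 2 G) {x : G} (h : x ∈ zpowers (x ^ 2)) : x = 1 := by
  obtain ⟨k, hk⟩ := mem_zpowers_iff.1 h
  have h1 : x ^ (2 * k - 1) = 1 := by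
    rw [zpow_sub, zpow_one, zpow_mul, zpow_ofNat, hk, mul_inv_cancel]
  exact eq_one_of_odd_zpow hG ⟨k - 1, by ring⟩ h1

theorem mem_zpowers_of_odd (hG : IsPGroup 2 G) {u : G} {i : ℤ} (hi : Odd i) : u ∈ zpowers (u ^ i) := by
  obtain ⟨k, hk⟩ := hG u
  have hc : IsCoprime i ((2 : ℤ) ^ k) := by
    apply IsCoprime.pow_right
    rw [Int.isCoprime_iff_gcd_eq_one]
    have : ¬ (2 : ℤ) ∣ i := fun h => (Int.not_even_iff_odd.2 hi) (even_iff_two_dvd.2 h)
    have h2 : Int.gcd i 2 ∣ 2 := by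
      have h5 : ((Int.gcd i 2 : ℕ) : ℤ) ∣ 2 := Int.gcd_dvd_right i 2
      exact_mod_cast h5
    have h3 := (Nat.dvd_prime Nat.prime_two).1 h2
    rcases h3 with h3 | h3
    · exact h3
    · exfalso
      apply this
      have h4 : ((Int.gcd i 2 : ℕ) : ℤ) ∣ i := Int.gcd_dvd_left i 2
      rwa [h3] at h4
  obtain ⟨α, β, hαβ⟩ := hc
  refine mem_zpowers_iff.2 ⟨α, ?_⟩
  have h1 : u ^ (α * i + β * 2 ^ k) = u := by rw [hαβ, zpow_one]
  rw [zpow_add, mul_comm β, zpow_mul u ((2 : ℤ) ^ k) β] at h1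
  have h2 : u ^ ((2 : ℤ) ^ k) = 1 := by
    have : ((2 : ℤ) ^ k) = ((2 ^ k : ℕ) : ℤ) := by push_cast; rfl
    rw [this, zpow_natCast, hk]
  rw [h2, one_zpow, mul_one] at h1
  rw [← zpow_mul, mul_comm]
  exact h1

/-- Conjugation on a cyclic group fixes the quotient by the squares. -/
theorem conj_comm_mem (hG : IsPGroup 2 G) (u g : G) (hn : g * u * g⁻¹ ∈ zpowers u) :
    g * u * g⁻¹ * u⁻¹ ∈ zpowers (u ^ 2) := by
  obtain ⟨k, hk⟩ := mem_zpowers_iff.1 hn
  rcases Int.even_or_odd' k with ⟨l, rfl | rfl⟩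
  · -- even exponent: impossible unless `u = 1`
    have h1 : u = 1 := by
      by_contra hu
      obtain ⟨m, hm⟩ := hG u
      have hod : orderOf u ∣ 2 ^ m := orderOf_dvd_of_pow_eq_one hm
      obtain ⟨r, hr, hr2⟩ := (Nat.dvd_prime_pow Nat.prime_two).1 hod
      have hr0 : r ≠ 0 := by
        rintro rfl
        apply hu
        simpa using hr2
      obtain ⟨r', rfl⟩ := Nat.exists_eq_succ_of_ne_zero hr0
      have h2 : (g * u * g⁻¹) ^ 2 ^ r' = 1 := by
        rw [← hk, ← zpow_natCast, ← zpow_mul]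
        have : (2 * l * ((2 ^ r' : ℕ) : ℤ)) = ((2 ^ r'.succ : ℕ) : ℤ) * l := by
          push_cast
          rw [pow_succ]
          ring
        rw [this, zpow_mul, zpow_natCast, ← hr2, pow_orderOf_eq_one, one_zpow]
      have h3 : u ^ 2 ^ r' = 1 := by
        rw [conj_pow] at h2
        have h5 : u ^ 2 ^ r' = g⁻¹ * (g * u ^ 2 ^ r' * g⁻¹) * g := by group
        rw [h5, h2]
        group
      have h6 := orderOf_dvd_of_pow_eq_one h3
      rw [hr2] at h6
      have h7 := Nat.le_of_dvd (by positivity) h6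
      have h8 : 2 ^ r' < 2 ^ r'.succ := Nat.pow_lt_pow_right (by norm_num) (Nat.lt_succ_self _)
      omega
    subst h1
    simp
  · rw [← hk]
    refine mem_zpowers_iff.2 ⟨l, ?_⟩
    rw [zpow_add, zpow_mul, zpow_one, mul_inv_cancel_right, zpow_ofNat]

/-- Elements of a normal cyclic group: `⟨w⟩` is normal. -/
theorem conj_mem_zpowers_of_mem {a : G} (ha : (zpowers a).Normal) {w : G} (hw : w ∈ zpowers a) (g : G) :
    g * w * g⁻¹ ∈ zpowers w := by
  obtain ⟨e, rfl⟩ := mem_zpowers_iff.1 hw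
  obtain ⟨k, hk⟩ := mem_zpowers_iff.1 (ha.conj_mem a (mem_zpowers a) g)
  refine mem_zpowers_iff.2 ⟨k, ?_⟩
  have h1 : g * a ^ e * g⁻¹ = (g * a * g⁻¹) ^ e := conj_zpow.symm
  rw [h1, ← hk, ← zpow_mul, ← zpow_mul, mul_comm]

/-- Squares conjugate `a` by a power `≡ 1 mod 4`. -/
theorem sq_comm_mem (hG : IsPGroup 2 G) {a : G} (ha : (zpowers a).Normal) (s : G) :
    s ^ 2 * a * (s ^ 2)⁻¹ * a⁻¹ ∈ zpowers (a ^ 4) := by
  obtain ⟨l, hl⟩ := mem_zpowers_iff.1 (conj_comm_mem hG a s (ha.conj_mem a (mem_zpowers a) s))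
  have h1 : s * a * s⁻¹ = a ^ (1 + 2 * l) := by
    have h2 : s * a * s⁻¹ = (s * a * s⁻¹ * a⁻¹) * a := by group
    rw [h2, ← hl, add_comm, zpow_add, zpow_one, zpow_mul, zpow_ofNat]
  have h3 : s ^ 2 * a * (s ^ 2)⁻¹ = a ^ ((1 + 2 * l) * (1 + 2 * l)) := by
    have h4 : s ^ 2 * a * (s ^ 2)⁻¹ = s * (s * a * s⁻¹) * s⁻¹ := by
      simp only [sq, mul_inv_rev]
      group
    rw [h4, h1, zpow_mul, ← conj_zpow, ← h1]
  refine mem_zpowers_iff.2 ⟨l * l + l, ?_⟩
  rw [h3, ← zpow_natCast a 4, ← zpow_mul, ← zpow_sub_one]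
  congr 1
  push_cast
  ring

/-- In a group where every element of `R` has its square in `D`, commutators of `R` lie in `D`. -/
theorem comm_mem_of_sq {R D : Subgroup G} (hDsq : ∀ x ∈ R, x ^ 2 ∈ D) {r x : G} (hr : r ∈ R) (hx : x ∈ R) :
    r * x * r⁻¹ * x⁻¹ ∈ D := by
  have h1 : r * x * r⁻¹ * x⁻¹ = (r * x) ^ 2 * ((x⁻¹ * r⁻¹ * x) ^ 2 * (x⁻¹) ^ 2) := by
    simp only [sq]
    group
  rw [h1]
  exact D.mul_mem (hDsq _ (R.mul_mem hr hx))
    (D.mul_mem (hDsq _ (R.mul_mem (R.mul_mem (R.inv_mem hx) (R.inv_mem hr)) hx)) (hDsq _ (R.inv_mem hx)))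


theorem exists_pair (hm : Cfsg.IsMetacyclic G) (R : Subgroup G) : ∃ a b u y : G,
    (zpowers a).Normal ∧ commutator G ≤ zpowers a ∧ (∀ x : G, ∃ i j : ℤ, x = b ^ j * a ^ i) ∧
    u ∈ R ∧ y ∈ R ∧ R ⊓ zpowers a = zpowers u ∧ (∀ x ∈ R, ∃ i j : ℤ, x = y ^ j * u ^ i) := by
  classical
  obtain ⟨a, b, han, hcomm, hform⟩ := Cfsg.Agent.Lib.PGroups.MetacyclicAut.exists_gens hm
  haveI := han
  let π := QuotientGroup.mk' (zpowers a)
  have hle : R.map π ≤ zpowers (π b) := by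
    rintro _ ⟨x, hx, rfl⟩
    obtain ⟨i, j, rfl⟩ := hform x
    refine mem_zpowers_iff.2 ⟨j, ?_⟩
    rw [map_mul, map_zpow, map_zpow (π) a i]
    have : π a = 1 := (QuotientGroup.eq_one_iff a).2 (mem_zpowers a)
    rw [this, one_zpow, mul_one]
  obtain ⟨q, hq⟩ := Cfsg.Agent.Lib.PGroups.MetacyclicAut.exists_gen_of_le_zpowers hle
  have hqmem : q ∈ R.map π := by rw [hq]; exact mem_zpowers q
  obtain ⟨y, hyR, rfl⟩ := hqmem
  obtain ⟨u, hu⟩ := Cfsg.Agent.Lib.PGroups.MetacyclicAut.exists_gen_of_le_zpowers (C := R ⊓ zpowers a) (g := a) inf_le_right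
  have huR : u ∈ R ⊓ zpowers a := by rw [hu]; exact mem_zpowers u
  refine ⟨a, b, u, y, han, hcomm, hform, huR.1, hyR, hu, ?_⟩
  intro x hx
  have h1 : π x ∈ zpowers (π y) := by rw [← hq]; exact ⟨x, hx, rfl⟩
  obtain ⟨j, hj⟩ := mem_zpowers_iff.1 h1
  have h2 : (y ^ j)⁻¹ * x ∈ R ⊓ zpowers a := by
    refine ⟨R.mul_mem (R.inv_mem (zpow_mem hyR j)) hx, ?_⟩
    show (y ^ j)⁻¹ * x ∈ zpowers a
    rw [← QuotientGroup.eq]
    rw [← map_zpow] at hj
    exact hj
  rw [hu] at h2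
  obtain ⟨i, hi⟩ := mem_zpowers_iff.1 h2
  exact ⟨i, j, by rw [hi]; group⟩

/-- The stabilizer of `R / D`. -/
def commStab (R D : Subgroup G) (t : G) (hDn : ∀ x ∈ R, ∀ d ∈ D, x * d * x⁻¹ ∈ D) : Subgroup G where
  carrier := {x | x ∈ R ∧ t * x * t⁻¹ * x⁻¹ ∈ D}
  mul_mem' := by
    rintro a b ⟨ha, ha'⟩ ⟨hb, hb'⟩
    refine ⟨R.mul_mem ha hb, ?_⟩
    have h1 : t * (a * b) * t⁻¹ * (a * b)⁻¹ = (t * a * t⁻¹ * a⁻¹) * (a * (t * b * t⁻¹ * b⁻¹) * a⁻¹) := by group
    rw [h1]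
    exact D.mul_mem ha' (hDn a ha _ hb')
  one_mem' := ⟨R.one_mem, by simp [D.one_mem]⟩
  inv_mem' := by
    rintro a ⟨ha, ha'⟩
    refine ⟨R.inv_mem ha, ?_⟩
    have h1 : t * a⁻¹ * t⁻¹ * a⁻¹⁻¹ = a⁻¹ * (t * a * t⁻¹ * a⁻¹)⁻¹ * a⁻¹⁻¹ := by group
    rw [h1]
    exact hDn a⁻¹ (R.inv_mem ha) _ (D.inv_mem ha')

theorem zpowers_total {Q : Type*} [Group Q] [Finite Q] (hQ : IsPGroup 2 Q) {c q₁ q₂ : Q} (h1 : q₁ ∈ zpowers c)
    (h2 : q₂ ∈ zpowers c) : q₁ ∈ zpowers q₂ ∨ q₂ ∈ zpowers q₁ := by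
  obtain ⟨j₁, rfl⟩ := Cfsg.Agent.Lib.Metacyclic.Basic.exists_natPow_of_mem_zpowers h1
  obtain ⟨j₂, rfl⟩ := Cfsg.Agent.Lib.Metacyclic.Basic.exists_natPow_of_mem_zpowers h2
  obtain ⟨k₁, hk₁⟩ := hQ (c ^ j₁)
  obtain ⟨k₂, hk₂⟩ := hQ (c ^ j₂)
  obtain ⟨r₁, -, hr₁⟩ := (Nat.dvd_prime_pow Nat.prime_two).1 (orderOf_dvd_of_pow_eq_one hk₁)
  obtain ⟨r₂, -, hr₂⟩ := (Nat.dvd_prime_pow Nat.prime_two).1 (orderOf_dvd_of_pow_eq_one hk₂)
  rcases le_total r₁ r₂ with h | h
  · left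
    apply Cfsg.Agent.Lib.Metacyclic.Basic.mem_zpowers_of_orderOf_dvd
    rw [hr₁, hr₂]
    exact pow_dvd_pow 2 h
  · right
    apply Cfsg.Agent.Lib.Metacyclic.Basic.mem_zpowers_of_orderOf_dvd
    rw [hr₁, hr₂]
    exact pow_dvd_pow 2 h

/-- **Structure.** -/
theorem core (hG : IsPGroup 2 G) (hm : Cfsg.IsMetacyclic G) (R D : Subgroup G) (t : G)
    (htn : ∀ x ∈ R, t * x * t⁻¹ ∈ R) (ht2 : t ^ 2 ∈ R)
    (hDsq : ∀ x ∈ R, x ^ 2 ∈ D) (hDn : ∀ x ∈ R, ∀ d ∈ D, x * d * x⁻¹ ∈ D)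
    (hne : ∃ x ∈ R, t * x * t⁻¹ * x⁻¹ ∉ D)
    (H : ∀ u y, u ∈ R → y ∈ R → u ∉ D → (y * u = u * y → u ^ 2 = 1) → (∀ x ∈ R, ∃ i j : ℤ, x = y ^ j * u ^ i) →
       y ^ 2 ∈ zpowers u) :
    ∃ a y : G, (zpowers a).Normal ∧ y ^ 2 ∈ zpowers a ∧ y ∉ zpowers a ∧ (zpowers a).index = 2 ∧
      y * a * y⁻¹ * a⁻¹ ∉ zpowers (a ^ 4) := by
  classical
  obtain ⟨a, b, u, y, han, hcomm, hform, huR, hyR, hu, hRform⟩ := exists_pair hm R
  haveI := han
  let π := QuotientGroup.mk' (zpowers a)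
  have hπ : ∀ x, π x = 1 ↔ x ∈ zpowers a := fun x => QuotientGroup.eq_one_iff x
  have hπa : π a = 1 := (hπ a).2 (mem_zpowers a)
  have hπs : Function.Surjective π := QuotientGroup.mk'_surjective _
  have hQ : IsPGroup 2 (G ⧸ zpowers a) := hG.of_surjective π hπs
  have hπb : ∀ x, π x ∈ zpowers (π b) := by
    intro x
    obtain ⟨i, j, rfl⟩ := hform x
    refine mem_zpowers_iff.2 ⟨j, ?_⟩
    rw [map_mul, map_zpow, map_zpow (π) a i, hπa, one_zpow, mul_one]
  have hRA : ∀ x, x ∈ R → x ∈ zpowers a → x ∈ zpowers u := by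
    intro x h1 h2
    rw [← hu]
    exact ⟨h1, h2⟩
  have huA : u ∈ zpowers a := by
    have : u ∈ R ⊓ zpowers a := by rw [hu]; exact mem_zpowers u
    exact this.2
  have hconjA : ∀ (g x : G), x ∈ zpowers a → g * x * g⁻¹ ∈ zpowers a := fun g x hx => han.conj_mem x hx g
  have hcommA : ∀ x z : G, x ∈ zpowers a → z ∈ zpowers a → x * z = z * x := by
    intro x z hx hz
    obtain ⟨i, rfl⟩ := mem_zpowers_iff.1 hx
    obtain ⟨j, rfl⟩ := mem_zpowers_iff.1 hz
    exact (Commute.refl a).zpow_zpow i j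
  have hsqD : ∀ e ∈ zpowers (u ^ 2), e ∈ D := by
    intro e he
    obtain ⟨l, rfl⟩ := mem_zpowers_iff.1 he
    have : (u ^ 2) ^ l = (u ^ l) ^ 2 := by
      rw [← zpow_natCast, ← zpow_natCast, ← zpow_mul, ← zpow_mul, mul_comm]
    rw [this]
    exact hDsq _ (zpow_mem huR l)
  -- Step B
  have hcu : t * u * t⁻¹ * u⁻¹ ∈ D := by
    apply hsqD
    apply conj_comm_mem hG
    exact hRA _ (htn u huR) (hconjA t u huA)
  have hcy : t * y * t⁻¹ * y⁻¹ ∉ D := by
    intro hcy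
    obtain ⟨x, hx, hxn⟩ := hne
    apply hxn
    obtain ⟨i, j, rfl⟩ := hRform x hx
    have hK : y ^ j * u ^ i ∈ commStab R D t hDn :=
      Subgroup.mul_mem _ (zpow_mem (show y ∈ commStab R D t hDn from ⟨hyR, hcy⟩) j)
        (zpow_mem (show u ∈ commStab R D t hDn from ⟨huR, hcu⟩) i)
    exact hK.2
  -- Step C
  have hC : ∃ r ∈ R, r * t ∈ zpowers a := by
    rcases zpowers_total hQ (hπb t) (hπb y) with h | h
    · obtain ⟨m, hm'⟩ := mem_zpowers_iff.1 h
      refine ⟨(y ^ m)⁻¹, R.inv_mem (zpow_mem hyR m), ?_⟩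
      rw [← hπ, map_mul, map_inv, map_zpow, hm', inv_mul_cancel]
    · obtain ⟨m, hm'⟩ := mem_zpowers_iff.1 h
      have hm2 : π ((t ^ m)⁻¹ * y) = 1 := by
        rw [map_mul, map_inv, map_zpow, hm', inv_mul_cancel]
      rcases Int.even_or_odd' m with ⟨l, rfl | rfl⟩
      · exfalso
        apply hcy
        have htm : t ^ (2 * l) ∈ R := by
          rw [zpow_mul, zpow_ofNat]
          exact zpow_mem ht2 l
        set f := (t ^ (2 * l))⁻¹ * y with hf
        have hfR : f ∈ R := R.mul_mem (R.inv_mem htm) hyR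
        have hfA : f ∈ zpowers a := (hπ _).1 hm2
        have hyf : y = t ^ (2 * l) * f := by rw [hf]; group
        have h1 : t * f * t⁻¹ * f⁻¹ ∈ zpowers (f ^ 2) :=
          conj_comm_mem hG f t (conj_mem_zpowers_of_mem han hfA t)
        obtain ⟨e, he⟩ := mem_zpowers_iff.1 h1
        have h2 : t * y * t⁻¹ * y⁻¹ = (t ^ (2 * l) * f ^ e * (t ^ (2 * l))⁻¹) ^ 2 := by
          have h3 : (t ^ (2 * l) * f ^ e * (t ^ (2 * l))⁻¹) ^ 2 = t ^ (2 * l) * (f ^ 2) ^ e * (t ^ (2 * l))⁻¹ := by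
            rw [conj_pow]
            congr 2
            rw [← zpow_natCast, ← zpow_natCast, ← zpow_mul, ← zpow_mul, mul_comm]
          rw [h3, he, hyf]
          have hc : t * t ^ (2 * l) = t ^ (2 * l) * t := (Commute.refl t).zpow_right _ |>.eq
          have h4 : t * (t ^ (2 * l) * f) * t⁻¹ * (t ^ (2 * l) * f)⁻¹ =
              (t * t ^ (2 * l)) * f * t⁻¹ * f⁻¹ * (t ^ (2 * l))⁻¹ := by group
          rw [h4, hc]
          group
        rw [h2]
        exact hDsq _ (R.mul_mem (R.mul_mem htm (zpow_mem hfR e)) (R.inv_mem htm))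
      · -- odd
        refine ⟨y⁻¹ * (t ^ 2) ^ l, R.mul_mem (R.inv_mem hyR) (zpow_mem ht2 l), ?_⟩
        have h1 : y⁻¹ * (t ^ 2) ^ l * t = ((t ^ (2 * l + 1))⁻¹ * y)⁻¹ := by
          rw [mul_inv_rev, inv_inv, zpow_add, zpow_one, zpow_mul, zpow_ofNat, mul_assoc]
        rw [h1]
        exact (zpowers a).inv_mem ((hπ _).1 hm2)
  obtain ⟨r, hrR, hwA⟩ := hC
  set w := r * t with hw
  have hwR : ∀ x ∈ R, w * x * w⁻¹ ∈ R := by
    intro x hx
    have : w * x * w⁻¹ = r * (t * x * t⁻¹) * r⁻¹ := by rw [hw]; group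
    rw [this]
    exact R.mul_mem (R.mul_mem hrR (htn x hx)) (R.inv_mem hrR)
  have hw2 : w ^ 2 ∈ R := by
    have : w ^ 2 = r * (t * r * t⁻¹) * t ^ 2 := by
      rw [hw]
      simp only [sq]
      group
    rw [this]
    exact R.mul_mem (R.mul_mem hrR (htn r hrR)) ht2
  have hw2u : w ^ 2 ∈ zpowers u := hRA _ hw2 (Subgroup.pow_mem _ hwA 2)
  set v := w * y * w⁻¹ * y⁻¹ with hv
  have hvD : v ∉ D := by
    intro hv'
    apply hcy
    have h1 : t * y * t⁻¹ * y⁻¹ = (r * (t * y * t⁻¹) * r⁻¹ * (t * y * t⁻¹)⁻¹)⁻¹ * v := by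
      rw [hv, hw]
      group
    rw [h1]
    exact D.mul_mem (D.inv_mem (comm_mem_of_sq hDsq hrR (htn y hyR))) hv'
  have hvR : v ∈ R := R.mul_mem (hwR y hyR) (R.inv_mem hyR)
  have hvA : v ∈ zpowers a := by
    have : v = w * (y * w⁻¹ * y⁻¹) := by rw [hv]; group
    rw [this]
    exact (zpowers a).mul_mem hwA (hconjA y _ ((zpowers a).inv_mem hwA))
  obtain ⟨i, hi⟩ := mem_zpowers_iff.1 (hRA v hvR hvA)
  have hiodd : Odd i := by
    rcases Int.even_or_odd' i with ⟨l, rfl | rfl⟩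
    · exfalso
      apply hvD
      rw [← hi]
      have : u ^ (2 * l) = (u ^ l) ^ 2 := by
        rw [← zpow_natCast, ← zpow_mul, mul_comm]
        rfl
      rw [this]
      exact hDsq _ (zpow_mem huR l)
    · exact ⟨l, rfl⟩
  have huD : u ∉ D := by
    intro h
    apply hvD
    rw [← hi]
    exact zpow_mem h i
  have huv : u ∈ zpowers v := by
    rw [← hi]
    exact mem_zpowers_of_odd hG hiodd
  -- Step E
  have hstar : y * a * y⁻¹ * a⁻¹ ∉ zpowers (a ^ 4) := by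
    intro h
    obtain ⟨q, hq⟩ := mem_zpowers_iff.1 h
    obtain ⟨e, he⟩ := mem_zpowers_iff.1 hwA
    have h1 : y * a * y⁻¹ = a ^ (4 * q + 1) := by
      have h2 : y * a * y⁻¹ = (y * a * y⁻¹ * a⁻¹) * a := by group
      rw [h2, ← hq, zpow_add, zpow_one, zpow_mul, zpow_ofNat]
    have h3 : y * w * y⁻¹ = w ^ (4 * q + 1) := by
      rw [← he, ← conj_zpow, h1, ← zpow_mul, ← zpow_mul, mul_comm]
    have h4 : v ∈ zpowers (w ^ 4) := by
      refine mem_zpowers_iff.2 ⟨-q, ?_⟩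
      have h5 : v = w * (y * w * y⁻¹)⁻¹ := by rw [hv]; group
      have h6 : (w ^ 4) ^ (-q) = w ^ (1 - (4 * q + 1)) := by
        rw [← zpow_natCast, ← zpow_mul]
        congr 1
        push_cast
        ring
      rw [h5, h3, h6, zpow_sub, zpow_one]
    have h4' : u ∈ zpowers (w ^ 4) := (zpowers_le.2 h4) huv
    have h6 : w ^ 2 ∈ zpowers ((w ^ 2) ^ 2) := by
      have h10 : (w ^ 2) ^ 2 = w ^ 4 := by rw [← pow_mul]
      rw [h10]
      exact (zpowers_le.2 h4') hw2u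
    have h11 : w ^ 2 = 1 := eq_one_of_mem_zpowers_sq hG h6
    have h13 : w ^ 4 = 1 := by
      rw [show 4 = 2 * 2 from rfl, pow_mul, h11, one_pow]
    rw [h13, zpowers_one_eq_bot, mem_bot] at h4'
    exact huD (h4' ▸ D.one_mem)
  -- Step F
  obtain ⟨iy, jy, hy⟩ := hform y
  have hjodd : Odd jy := by
    rcases Int.even_or_odd' jy with ⟨j', rfl | rfl⟩
    · exfalso
      apply hstar
      have h1 : y * a * y⁻¹ * a⁻¹ = (b ^ j') ^ 2 * a * ((b ^ j') ^ 2)⁻¹ * a⁻¹ := by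
        have h2 : b ^ (2 * j') = (b ^ j') ^ 2 := by
          rw [← zpow_natCast, ← zpow_mul, mul_comm]
          rfl
        rw [hy, h2]
        have hc : a ^ iy * a = a * a ^ iy := (Commute.refl a).zpow_left _ |>.eq
        calc _ = (b ^ j') ^ 2 * (a ^ iy * a) * (a ^ iy)⁻¹ * ((b ^ j') ^ 2)⁻¹ * a⁻¹ := by group
          _ = _ := by rw [hc]; group
      rw [h1]
      exact sq_comm_mem hG han _
    · exact ⟨j', rfl⟩
  -- Step G
  have hG' : y * u = u * y → u ^ 2 = 1 := by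
    intro hyu
    obtain ⟨l, hl⟩ := mem_zpowers_iff.1 hw2u
    have h1 : y * w ^ 2 * y⁻¹ = w ^ 2 := by
      rw [← hl, ← conj_zpow]
      have : y * u * y⁻¹ = u := by rw [hyu]; group
      rw [this]
    set w' := y * w * y⁻¹ with hw'
    have hw'A : w' ∈ zpowers a := hconjA y w hwA
    have h2 : w' ^ 2 = w ^ 2 := by rw [hw', conj_pow]; exact h1
    have h3 : v = w * w'⁻¹ := by rw [hv, hw']; group
    have h4 : v ^ 2 = 1 := by
      have hc : w * w'⁻¹ = w'⁻¹ * w := hcommA _ _ hwA ((zpowers a).inv_mem hw'A)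
      rw [h3, sq]
      calc w * w'⁻¹ * (w * w'⁻¹) = w * (w'⁻¹ * w) * w'⁻¹ := by group
        _ = w * (w * w'⁻¹) * w'⁻¹ := by rw [hc]
        _ = w ^ 2 * (w' ^ 2)⁻¹ := by simp only [sq]; group
        _ = 1 := by rw [h2]; group
    rw [← hi] at h4
    have h5 : (u ^ 2) ^ i = 1 := by
      rw [← h4, ← zpow_natCast, ← zpow_natCast, ← zpow_mul, ← zpow_mul, mul_comm]
    exact eq_one_of_odd_zpow hG hiodd h5
  have hy2 : y ^ 2 ∈ zpowers u := H u y huR hyR huD hG' hRform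
  have hy2A : y ^ 2 ∈ zpowers a := (zpowers_le.2 huA) hy2
  have hyA : y ∉ zpowers a := by
    intro h
    apply hstar
    have : y * a * y⁻¹ * a⁻¹ = 1 := by
      rw [hcommA y a h (mem_zpowers a)]
      group
    rw [this]
    exact one_mem _
  -- Step I
  have hπy : π y = π b ^ jy := by rw [hy, map_mul, map_zpow, map_zpow π a, hπa, one_zpow, mul_one]
  have hc2 : π b ^ 2 = 1 := by
    have h1 : (π y) ^ 2 = 1 := by
      rw [← map_pow]
      exact (hπ _).2 hy2A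
    rw [hπy] at h1
    apply eq_one_of_odd_zpow hQ hjodd
    rw [← zpow_natCast, ← zpow_mul, mul_comm, zpow_mul, zpow_natCast]
    exact h1
  have hπyb : π y = π b := by
    obtain ⟨l, rfl⟩ := hjodd
    rw [hπy, zpow_add, zpow_mul, zpow_ofNat, hc2, one_zpow, one_mul, zpow_one]
  have hcne : π b ≠ 1 := by
    rw [← hπyb]
    exact fun h => hyA ((hπ y).1 h)
  have hform2 : ∀ x, π x = 1 ∨ π x = π b := by
    intro x
    obtain ⟨i', j', rfl⟩ := hform x
    rw [map_mul, map_zpow, map_zpow π a, hπa, one_zpow, mul_one]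
    rcases Int.even_or_odd' j' with ⟨l, rfl | rfl⟩
    · left
      rw [zpow_mul, zpow_ofNat, hc2, one_zpow]
    · right
      rw [zpow_add, zpow_mul, zpow_ofNat, hc2, one_zpow, one_mul, zpow_one]
  have hidx : (zpowers a).index = 2 := by
    rw [Subgroup.index_eq_two_iff]
    refine ⟨y, fun x => ?_⟩
    rcases hform2 x with h | h
    · right
      refine ⟨(hπ x).1 h, ?_⟩
      intro h'
      have := (hπ _).2 h'
      rw [map_mul, h, one_mul, hπyb] at this
      exact hcne this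
    · left
      refine ⟨?_, ?_⟩
      · rw [← hπ, map_mul, h, hπyb, ← sq, hc2]
      · intro h'
        rw [(hπ x).2 h'] at h
        exact hcne h.symm
  exact ⟨a, y, han, hy2A, hyA, hidx, hstar⟩


/-- Index-two cyclic subgroups with an outer element acting as `≡ 3 mod 4`. -/
theorem final (hG : IsPGroup 2 G) {a y : G} (han : (zpowers a).Normal) (hy2 : y ^ 2 ∈ zpowers a)
    (hyA : y ∉ zpowers a) (hidx : (zpowers a).index = 2) (hc : y * a * y⁻¹ * a⁻¹ ∉ zpowers (a ^ 4)) :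
    (∃ m : ℕ, Nonempty (G ≃* DihedralGroup m)) ∨ (∃ m : ℕ, Nonempty (G ≃* QuaternionGroup m)) ∨
      Cfsg.IsQuasiDihedral G := by
  classical
  obtain ⟨k, hk⟩ := hG a
  obtain ⟨n, -, hn⟩ := (Nat.dvd_prime_pow Nat.prime_two).1 (orderOf_dvd_of_pow_eq_one hk)
  have hcard : Nat.card G = 2 * 2 ^ n := by
    have h1 := Subgroup.card_mul_index (zpowers a)
    rw [hidx, Nat.card_zpowers, hn] at h1
    rw [← h1]
    ring
  -- the action
  obtain ⟨l, hl⟩ := mem_zpowers_iff.1 (conj_comm_mem hG a y (han.conj_mem a (mem_zpowers a) y))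
  have hlodd : Odd l := by
    rcases Int.even_or_odd' l with ⟨e, rfl | rfl⟩
    · exfalso
      apply hc
      rw [← hl]
      refine mem_zpowers_iff.2 ⟨e, ?_⟩
      rw [← zpow_natCast, ← zpow_mul, ← zpow_natCast, ← zpow_mul]
      congr 1
      push_cast
      ring
    · exact ⟨e, rfl⟩
  obtain ⟨l', rfl⟩ := hlodd
  set K : ℤ := 3 + 4 * l' with hK
  have hya : y * a * y⁻¹ = a ^ K := by
    have h2 : y * a * y⁻¹ = (y * a * y⁻¹ * a⁻¹) * a := by group
    rw [h2, ← hl, ← zpow_natCast, ← zpow_mul, ← zpow_add_one]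
    congr 1
    push_cast
    rw [hK]
    ring
  have hn2 : 2 ≤ n := by
    by_contra hlt
    have h1 : a ^ 2 = 1 := by
      have h2 : n ≤ 1 := by omega
      have h3 : orderOf a ∣ 2 := by
        rw [hn]
        exact pow_dvd_pow 2 h2 |>.trans (by norm_num)
      exact orderOf_dvd_iff_pow_eq_one.1 h3
    apply hc
    rw [← hl, h1, one_zpow]
    exact one_mem _
  obtain ⟨n', rfl⟩ : ∃ n', n = n' + 1 := ⟨n - 1, by omega⟩
  have hn'1 : 1 ≤ n' := by omega
  have hordz : ((2 ^ (n' + 1) : ℕ) : ℤ) = 2 * 2 ^ n' := by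
    push_cast
    ring
  have hdvd : ∀ e : ℤ, a ^ e = 1 → (2 * 2 ^ n' : ℤ) ∣ e := by
    intro e he
    have := orderOf_dvd_iff_zpow_eq_one.2 he
    rwa [hn, hordz] at this
  have hyconj : ∀ e : ℤ, y * a ^ e * y⁻¹ = a ^ (K * e) := by
    intro e
    rw [← conj_zpow, hya, zpow_mul]
  have hcoprime : IsCoprime ((2 : ℤ) ^ n') (1 + 2 * l') := by
    apply IsCoprime.pow_left
    exact ⟨-l', 1, by ring⟩
  -- `y²` commutes with `a`
  obtain ⟨r, hr⟩ := mem_zpowers_iff.1 hy2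
  have hKK : (2 * 2 ^ n' : ℤ) ∣ (K * K - 1) := by
    apply hdvd
    have h1 : y ^ 2 * a * (y ^ 2)⁻¹ = a := by
      have : y ^ 2 * a = a * y ^ 2 := by
        rw [← hr]
        exact (Commute.refl a).zpow_left r |>.eq
      rw [this]
      group
    have h2 : y ^ 2 * a * (y ^ 2)⁻¹ = a ^ (K * K) := by
      have h3 : y ^ 2 * a * (y ^ 2)⁻¹ = y * (y * a * y⁻¹) * y⁻¹ := by
        simp only [sq, mul_inv_rev]
        group
      rw [h3, hya, hyconj]
    rw [h2] at h1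
    rw [zpow_sub, zpow_one, h1, mul_inv_cancel]
  have hq : ∃ q : ℤ, K + 1 = 2 ^ n' * q := by
    have h1 : K * K - 1 = 2 * ((1 + 2 * l') * (K + 1)) := by
      rw [hK]
      ring
    rw [h1] at hKK
    have h2 : (2 : ℤ) ^ n' ∣ (1 + 2 * l') * (K + 1) := (mul_dvd_mul_iff_left (by norm_num)).1 hKK
    exact hcoprime.dvd_of_dvd_mul_left h2
  obtain ⟨q, hq⟩ := hq
  have hrr : ∃ r' : ℤ, r = 2 ^ n' * r' := by
    have h1 : (2 * 2 ^ n' : ℤ) ∣ (K - 1) * r := by
      apply hdvd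
      have h2 : y * y ^ 2 * y⁻¹ = y ^ 2 := by
        simp only [sq]
        group
      rw [← hr, hyconj] at h2
      rw [sub_mul, zpow_sub, h2, one_mul, mul_inv_cancel]
    have h3 : (K - 1) * r = 2 * ((1 + 2 * l') * r) := by
      rw [hK]
      ring
    rw [h3] at h1
    have h2 : (2 : ℤ) ^ n' ∣ (1 + 2 * l') * r := (mul_dvd_mul_iff_left (by norm_num)).1 h1
    exact hcoprime.dvd_of_dvd_mul_left h2
  obtain ⟨r', rfl⟩ := hrr
  -- the involution
  set z : G := a ^ (2 ^ n' : ℕ) with hz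
  have hz2 : z ^ 2 = 1 := by
    rw [hz, ← pow_mul, ← pow_succ, ← hn, pow_orderOf_eq_one]
  have hzz : a ^ ((2 : ℤ) ^ n') = z := by
    rw [hz, ← zpow_natCast]
    congr 1
  have hzpow : ∀ e : ℤ, a ^ ((2 : ℤ) ^ n' * e) = z ^ e := by
    intro e
    rw [zpow_mul, hzz]
  have hz_even : ∀ e : ℤ, Even e → z ^ e = 1 := by
    rintro e ⟨e', rfl⟩
    have : e' + e' = 2 * e' := by ring
    rw [this, zpow_mul, zpow_ofNat, hz2, one_zpow]
  have hz_odd : ∀ e : ℤ, Odd e → z ^ e = z := by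
    rintro e ⟨e', rfl⟩
    rw [zpow_add, zpow_mul, zpow_ofNat, hz2, one_zpow, one_mul, zpow_one]
  have hya2 : y * a * y⁻¹ = a⁻¹ * z ^ q := by
    rw [hya, ← hzpow, ← hq, zpow_add_one]
    group
  haveI : NeZero (2 ^ (n' + 1)) := ⟨by positivity⟩
  rcases Int.even_or_odd q with hqe | hqo
  · have hya3 : y * a * y⁻¹ = a⁻¹ := by rw [hya2, hz_even q hqe, mul_one]
    rcases Int.even_or_odd r' with hre | hro
    · left
      have hy21 : y ^ 2 = 1 := by rw [← hr, hzpow, hz_even r' hre]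
      obtain ⟨e⟩ := nonempty_dihedral_equiv hn hy21 hya3 hyA hcard
      exact ⟨_, ⟨e.symm⟩⟩
    · right
      left
      have hy2z : y ^ 2 = z := by rw [← hr, hzpow, hz_odd r' hro]
      haveI : NeZero (2 ^ n') := ⟨by positivity⟩
      obtain ⟨e⟩ := nonempty_quaternion_equiv (m := 2 ^ n') (a := a) (y := y) (by rw [hn, pow_succ]; ring) hy2z
        hya3 hyA (by rw [hcard, pow_succ]; ring)
      exact ⟨_, ⟨e.symm⟩⟩
  · right
    right
    have hz' : y * a * y⁻¹ = a⁻¹ * z := by rw [hya2, hz_odd q hqo]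
    have hn'2 : 2 ≤ n' := by
      by_contra hlt
      have h1 : n' = 1 := by omega
      subst h1
      obtain ⟨q', rfl⟩ := hqo
      have h2 : K + 1 = 2 * (2 * q' + 1) := by simpa using hq
      rw [hK] at h2
      omega
    have hzrel : a⁻¹ * z = a ^ (2 ^ (n' + 1 - 1) - 1) := by
      have h1 : n' + 1 - 1 = n' := by omega
      rw [h1]
      have h2 : 1 ≤ 2 ^ n' := Nat.one_le_two_pow
      rw [pow_sub a h2, pow_one, hz]
      exact ((Commute.refl a).pow_right _).inv_left.eq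
    have hcard' : Nat.card G = 2 ^ (n' + 1 + 1) := by
      rw [hcard, pow_succ 2 (n' + 1)]
      ring
    rcases Int.even_or_odd r' with hre | hro
    · have hy21 : y ^ 2 = 1 := by rw [← hr, hzpow, hz_even r' hre]
      have hy1 : y ≠ 1 := fun h => hyA (h ▸ one_mem _)
      haveI : Fact (Nat.Prime 2) := ⟨Nat.prime_two⟩
      exact ⟨n' + 1, by omega, hcard', a, y, hn, orderOf_eq_prime hy21 hy1, by rw [hz', hzrel]⟩
    · have hy2z : y ^ 2 = z := by rw [← hr, hzpow, hz_odd r' hro]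
      have hy' : (y * a) ^ 2 = 1 := by
        have h1 : (y * a) ^ 2 = (y * a * y⁻¹) * y ^ 2 * a := by
          simp only [sq]
          group
        rw [h1, hz', hy2z, mul_assoc a⁻¹ z z, ← sq, hz2]
        group
      have hy'1 : y * a ≠ 1 := by
        intro h
        apply hyA
        have h1 : y = a⁻¹ := eq_inv_of_mul_eq_one_left h
        rw [h1]
        exact inv_mem (mem_zpowers a)
      haveI : Fact (Nat.Prime 2) := ⟨Nat.prime_two⟩
      refine ⟨n' + 1, by omega, hcard', a, y * a, hn, orderOf_eq_prime hy' hy'1, ?_⟩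
      have h1 : y * a * a * (y * a)⁻¹ = y * a * y⁻¹ := by group
      rw [h1, hz', hzrel]

theorem pure_of_core (hG : IsPGroup 2 G) (hm : Cfsg.IsMetacyclic G) (R D : Subgroup G) (t : G)
    (htn : ∀ x ∈ R, t * x * t⁻¹ ∈ R) (ht2 : t ^ 2 ∈ R)
    (hDsq : ∀ x ∈ R, x ^ 2 ∈ D) (hDn : ∀ x ∈ R, ∀ d ∈ D, x * d * x⁻¹ ∈ D)
    (hne : ∃ x ∈ R, t * x * t⁻¹ * x⁻¹ ∉ D)
    (H : ∀ u y, u ∈ R → y ∈ R → u ∉ D → (y * u = u * y → u ^ 2 = 1) → (∀ x ∈ R, ∃ i j : ℤ, x = y ^ j * u ^ i) →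
       y ^ 2 ∈ zpowers u) :
    (∃ m : ℕ, Nonempty (G ≃* DihedralGroup m)) ∨ (∃ m : ℕ, Nonempty (G ≃* QuaternionGroup m)) ∨
      Cfsg.IsQuasiDihedral G := by
  obtain ⟨a, y, han, hy2, hyA, hidx, hc⟩ := core hG hm R D t htn ht2 hDsq hDn hne H
  exact final hG han hy2 hyA hidx hc

/-- The hypothesis `H` for the quaternion group of order 8 and homocyclic groups. -/
theorem H_of_class {X : Type*} [Group X] [Finite X]
    (hcl : Nonempty (X ≃* QuaternionGroup 2) ∨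
      ∃ n : ℕ, Nonempty (X ≃* Multiplicative (ZMod (2 ^ n)) × Multiplicative (ZMod (2 ^ n))))
    (u y : X) (hu : u ∉ frattini X) (hyu : y * u = u * y → u ^ 2 = 1) (hform : ∀ x : X, ∃ i j : ℤ, x = y ^ j * u ^ i) :
    y ^ 2 ∈ zpowers u := by
  classical
  rcases hcl with ⟨⟨e⟩⟩ | ⟨n, ⟨e⟩⟩
  · -- quaternion
    have hX : IsPGroup 2 X := by
      apply IsPGroup.of_card (n := 3)
      rw [Nat.card_congr e.toEquiv, Nat.card_eq_fintype_card, QuaternionGroup.card]
      norm_num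
    haveI : Fact (Nat.Prime 2) := ⟨Nat.prime_two⟩
    have h1 : ∀ x : QuaternionGroup 2, x ^ 2 = 1 ∨ x ^ 2 = QuaternionGroup.a 2 := by decide
    have h2 : ∀ x : QuaternionGroup 2, x ^ 2 = 1 → x = 1 ∨ x = QuaternionGroup.a 2 := by decide
    have h3 : (QuaternionGroup.a 1 : QuaternionGroup 2) ^ 2 = QuaternionGroup.a 2 := by decide
    have hz : e.symm (QuaternionGroup.a 2) ∈ frattini X := by
      rw [← h3, map_pow]
      exact Cfsg.Agent.Lib.PGroups.Basic.pow_mem_frattini hX _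
    have hu2 : e u ^ 2 ≠ 1 := by
      intro h
      rcases h2 _ h with h4 | h4
      · apply hu
        have : u = 1 := by simpa using h4
        rw [this]
        exact one_mem _
      · apply hu
        have : u = e.symm (QuaternionGroup.a 2) := by rw [← h4]; simp
        rw [this]
        exact hz
    have hu3 : e u ^ 2 = QuaternionGroup.a 2 := (h1 _).resolve_left hu2
    rcases h1 (e y) with h4 | h4
    · have : y ^ 2 = 1 := by
        apply e.injective
        rw [map_pow, h4, map_one]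
      rw [this]
      exact one_mem _
    · have : y ^ 2 = u ^ 2 := by
        apply e.injective
        rw [map_pow, map_pow, h4, hu3]
      rw [this]
      exact Subgroup.pow_mem _ (mem_zpowers u) 2
  · -- homocyclic
    have hcomm : ∀ a b : X, a * b = b * a := by
      intro a b
      apply e.injective
      rw [map_mul, map_mul, mul_comm]
    have hu2 := hyu (hcomm y u)
    have hM : ∀ a : Multiplicative (ZMod (2 ^ n)), a ^ 2 ^ n = 1 := by
      intro a
      haveI : NeZero (2 ^ n) := ⟨by positivity⟩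
      have h1 := pow_card_eq_one' (x := a)
      have h2 : Nat.card (Multiplicative (ZMod (2 ^ n))) = 2 ^ n := by
        rw [Nat.card_congr Multiplicative.toAdd, Nat.card_zmod]
      rwa [h2] at h1
    have hexp : ∀ x : X, x ^ 2 ^ n = 1 := by
      intro x
      apply e.injective
      rw [map_pow, map_one]
      exact Prod.ext (hM _) (hM _)
    have hcard : Nat.card X = 2 ^ n * 2 ^ n := by
      rw [Nat.card_congr e.toEquiv, Nat.card_prod, Nat.card_congr Multiplicative.toAdd, Nat.card_zmod]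
    let F : zpowers y × zpowers u → X := fun q => (q.1 : X) * (q.2 : X)
    have hF : Function.Surjective F := by
      intro x
      obtain ⟨i, j, rfl⟩ := hform x
      exact ⟨(⟨y ^ j, zpow_mem (mem_zpowers y) j⟩, ⟨u ^ i, zpow_mem (mem_zpowers u) i⟩), rfl⟩
    have h1 := Nat.card_le_card_of_surjective F hF
    rw [hcard, Nat.card_prod, Nat.card_zpowers, Nat.card_zpowers] at h1
    have h2 : orderOf y ≤ 2 ^ n := Nat.le_of_dvd (by positivity) (orderOf_dvd_of_pow_eq_one (hexp y))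
    have h3 : orderOf u ≤ 2 := Nat.le_of_dvd (by norm_num) (orderOf_dvd_of_pow_eq_one hu2)
    have h4 : 2 ^ n * 2 ^ n ≤ 2 ^ n * 2 := h1.trans (Nat.mul_le_mul h2 h3)
    have h5 : 2 ^ n ≤ 2 := Nat.le_of_mul_le_mul_left h4 (by positivity)
    have h6 : n ≤ 1 := by
      by_contra hlt
      have h7 : 2 ^ 2 ≤ 2 ^ n := Nat.pow_le_pow_right (by norm_num) (by omega)
      omega
    have h8 : y ^ 2 = 1 := by
      have h9 : orderOf y ∣ 2 := (orderOf_dvd_of_pow_eq_one (hexp y)).trans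
        (pow_dvd_pow 2 h6 |>.trans (by norm_num))
      exact orderOf_dvd_iff_pow_eq_one.1 h9
    rw [h8]
    exact one_mem _


/-- The pure statement in the form used for fusion systems. -/
theorem pure_iota {X : Type*} [Group X] [Finite X] (hG : IsPGroup 2 G) (hm : Cfsg.IsMetacyclic G)
    (hXm : Cfsg.IsMetacyclic X) (hX : IsPGroup 2 X)
    (ι : X →* G) (hι : Function.Injective ι) (t : G) (κ : MulAut X) (hκ : ∀ x, ι (κ x) = t * ι x * t⁻¹)
    (ht2 : t ^ 2 ∈ ι.range) (hne : ∃ x : X, κ x * x⁻¹ ∉ frattini X) (hA : ¬ IsPGroup 2 (MulAut X)) :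
    (∃ m : ℕ, Nonempty (G ≃* DihedralGroup m)) ∨ (∃ m : ℕ, Nonempty (G ≃* QuaternionGroup m)) ∨
      Cfsg.IsQuasiDihedral G := by
  haveI : Fact (Nat.Prime 2) := ⟨Nat.prime_two⟩
  have hcl := Cfsg.Agent.Lib.PGroups.MetacyclicAut.main hX hXm hA
  have hDmem : ∀ x : X, ι x ∈ (frattini X).map ι ↔ x ∈ frattini X := by
    intro x
    exact Function.Injective.mem_set_image hι
  apply pure_of_core hG hm ι.range ((frattini X).map ι) t
  · rintro _ ⟨r, rfl⟩
    exact ⟨κ r, hκ r⟩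
  · exact ht2
  · rintro _ ⟨r, rfl⟩
    rw [← map_pow]
    exact (hDmem _).2 (Cfsg.Agent.Lib.PGroups.Basic.pow_mem_frattini hX r)
  · rintro _ ⟨r, rfl⟩ _ ⟨f, hf, rfl⟩
    refine ⟨r * f * r⁻¹, ?_, by rw [map_mul, map_mul, map_inv]⟩
    haveI : (frattini X).Normal := inferInstance
    exact Subgroup.Normal.conj_mem inferInstance f hf r
  · obtain ⟨x, hx⟩ := hne
    refine ⟨ι x, ⟨x, rfl⟩, ?_⟩
    rw [← hκ, ← map_inv, ← map_mul]
    exact fun h => hx ((hDmem _).1 h)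
  · rintro _ _ ⟨u, rfl⟩ ⟨y, rfl⟩ hu hyu hform
    have h1 : y ^ 2 ∈ zpowers u := by
      apply H_of_class hcl u y (fun h => hu ((hDmem _).2 h))
      · intro h
        apply hι
        rw [map_pow, map_one]
        apply hyu
        rw [← map_mul, ← map_mul, h]
      · intro x
        obtain ⟨i, j, hij⟩ := hform (ι x) ⟨x, rfl⟩
        refine ⟨i, j, hι ?_⟩
        rw [hij, map_mul, map_zpow, map_zpow]
    obtain ⟨k, hk⟩ := mem_zpowers_iff.1 h1
    refine mem_zpowers_iff.2 ⟨k, ?_⟩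
    rw [← map_zpow, hk, map_pow]

theorem card_mulAut_dvd_six {V : Type*} [Group V] [Finite V] (h : Nat.card V ≤ 4) : Nat.card (MulAut V) ∣ 6 := by
  classical
  haveI := Fintype.ofFinite V
  let F : MulAut V →* Equiv.Perm {v : V // v ≠ 1} :=
    { toFun := fun e => e.toEquiv.subtypeEquiv (fun v => by
        simp only [ne_eq, MulEquiv.coe_toEquiv]
        exact not_congr (map_eq_one_iff e e.injective).symm)
      map_one' := by
        ext v
        rfl
      map_mul' := fun a b => by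
        ext v
        rfl }
  have hF : Function.Injective F := by
    intro a b hab
    ext v
    by_cases hv : v = 1
    · rw [hv, map_one, map_one]
    · have := congrArg (fun σ : Equiv.Perm {v : V // v ≠ 1} => ((σ ⟨v, hv⟩ : {v : V // v ≠ 1}) : V)) hab
      exact this
  have h1 : Nat.card (MulAut V) ∣ Nat.card (Equiv.Perm {v : V // v ≠ 1}) :=
    Subgroup.card_dvd_of_injective F hF
  have h2 : Nat.card {v : V // v ≠ 1} + 1 = Nat.card V := by
    rw [Nat.card_eq_fintype_card, Nat.card_eq_fintype_card, Fintype.card_subtype_compl, Fintype.card_subtype_eq]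
    have : 0 < Fintype.card V := Fintype.card_pos
    omega
  have h3 : Nat.card (Equiv.Perm {v : V // v ≠ 1}) = (Nat.card {v : V // v ≠ 1}).factorial := by
    rw [Nat.card_eq_fintype_card, Fintype.card_perm, Nat.card_eq_fintype_card]
  have h4 : Nat.card {v : V // v ≠ 1} ≤ 3 := by omega
  rw [h3] at h1
  refine h1.trans ?_
  interval_cases Nat.card {v : V // v ≠ 1} <;> decide

theorem eq_of_card_le_two {Q : Type*} [Group Q] [Finite Q] (h : Nat.card Q ≤ 2) {x y : Q} (hx : x ≠ 1) (hy : y ≠ 1) :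
    x = y := by
  classical
  by_contra hxy
  haveI := Fintype.ofFinite Q
  have h1 : ({1, x, y} : Finset Q).card = 3 := by
    rw [Finset.card_insert_of_notMem, Finset.card_insert_of_notMem, Finset.card_singleton]
    · simpa using hxy
    · simp only [Finset.mem_insert, Finset.mem_singleton, not_or]
      exact ⟨hx.symm, hy.symm⟩
  have h2 := Finset.card_le_univ ({1, x, y} : Finset Q)
  rw [h1, ← Nat.card_eq_fintype_card] at h2
  omega

end Cfsg.Agent.Lib.H29.StrongMetaTwoA
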