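import Cfsg.Agent.Lib.H29.StrongMeta
import Cfsg.Agent.Lib.H29.StrongMetaTwoA

/-!
# Strongly closed metacyclic 2-subgroups
-/

set_option autoImplicit false

namespace Cfsg.Agent.Lib.H29.StrongMetaTwo

open Subgroup
open Cfsg Cfsg.FusionSystem Cfsg.Agent.Lib.Fusion.Basic Cfsg.Agent.Lib.Fusion.Saturation
open Cfsg.Agent.Lib.FusionTheory.Chain Cfsg.Agent.Lib.FusionTheory.CoprimeAut
open Cfsg.Agent.Lib.Fusion.Alperin Cfsg.Agent.Lib.FusionTheory.Normal
open Cfsg.Agent.Lib.Fusion.SmallEssential Cfsg.Agent.Lib.H29.StrongMetaA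
open Cfsg.Agent.Lib.H29.StrongMeta Cfsg.Agent.Lib.H29.StrongMetaTwoA

universe u

variable {Ω : Type u} [Group Ω] {S : Subgroup Ω} [Finite S] {p : ℕ} [hp : Fact p.Prime]

/-- The action of `Aut_F(E)` on the Frattini quotient of `P ∩ E`. -/
noncomputable def fratAct (F : FusionSystem S) {P E : Subgroup Ω} (hP : F.StronglyClosed P) (hES : E ≤ S) :
    F.autGroup E →* MulAut (↥(P.subgroupOf E) ⧸ frattini ↥(P.subgroupOf E)) :=
  (fratHom (V := P.subgroupOf E)).comp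
    (resHom (F.autGroup E) (P.subgroupOf E) (fun _ hβ _ hd => StronglyClosed.aut_mem F hP hES hβ hd))

/-- Tower argument: if the image of `s ∈ P ∩ N(E)` in the action on the Frattini quotient of `P ∩ E` lies
in a normal `p`-subgroup, then `s ∈ E`. -/
theorem mem_of_fratAct (hS : IsPGroup p S) (F : FusionSystem S) {P : Subgroup Ω} (hP : F.StronglyClosed P)
    {E : Subgroup Ω} (hE : F.IsEssential p E) {s : Ω} (hsP : s ∈ P) (hsn : s ∈ normalizer (E : Set Ω))
    (Z : Subgroup (MulAut (↥(P.subgroupOf E) ⧸ frattini ↥(P.subgroupOf E))))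
    (hZn : ∀ g : F.autGroup E, ∀ z ∈ Z, fratAct F hP hE.1.1 g * z * (fratAct F hP hE.1.1 g)⁻¹ ∈ Z)
    (hZp : IsPGroup p Z)
    (hc : fratAct F hP hE.1.1 ⟨normAct E hsn, normAct_mem_autGroup F hE.1.1 (hP.1 hsP) hsn⟩ ∈ Z) : s ∈ E := by
  classical
  have hES : E ≤ S := hE.1.1
  have hfE : Finite E := finite_of_le hES
  have hPS := hP.1
  have hsS := hPS hsP
  have hEp : IsPGroup p E := hS.to_le hES
  let X : Subgroup (MulAut E) := F.autGroup E
  let R' : Subgroup E := P.subgroupOf E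
  have hinv : ∀ β ∈ X, ∀ d ∈ R', β d ∈ R' := fun β hβ d hd => StronglyClosed.aut_mem F hP hES hβ hd
  let res : X →* MulAut R' := resHom X R' hinv
  have hR'p : IsPGroup p R' := hEp.to_subgroup R'
  let c : X := ⟨normAct E hsn, normAct_mem_autGroup F hES hsS hsn⟩
  let f : X →* MulAut (↥R' ⧸ frattini ↥R') := fratAct F hP hES
  have hsec : ∀ x : E, x⁻¹ * (c : MulAut E) x ∈ R' := by
    intro x
    show ((x : Ω))⁻¹ * (s * x * s⁻¹) ∈ P
    have h2 : ((x : Ω))⁻¹ * s * ((x : Ω))⁻¹⁻¹ ∈ P :=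
      StronglyClosed.conj_mem F hP (S.inv_mem (hES x.2)) hsP
    have h3 : ((x : Ω))⁻¹ * (s * x * s⁻¹) = ((x : Ω))⁻¹ * s * ((x : Ω))⁻¹⁻¹ * s⁻¹ := by group
    rw [h3]
    exact P.mul_mem h2 (P.inv_mem hsP)
  have hT0 : IsTower p X (c : MulAut E) R' := by
    refine ⟨(Z.comap f).map X.subtype, map_subtype_le _, ?_, ⟨c, hc, rfl⟩, ?_⟩
    · rintro ρ hρ _ ⟨τ, hτ, rfl⟩
      refine ⟨⟨ρ, hρ⟩ * τ * ⟨ρ, hρ⟩⁻¹, ?_, rfl⟩
      show f _ ∈ Z
      rw [map_mul, map_mul, map_inv]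
      exact hZn _ _ hτ
    · rintro _ ⟨τ, hτ, rfl⟩ hcop x hx
      have hcop' : (orderOf τ).Coprime p := by
        rwa [← Subgroup.orderOf_coe]
      obtain ⟨n, hn⟩ := hZp ⟨f τ, hτ⟩
      have h2 : f τ ^ p ^ n = 1 := by
        simpa using congrArg Subtype.val hn
      have h3 : f τ ^ orderOf τ = 1 := by
        rw [← map_pow, pow_orderOf_eq_one, map_one]
      have h4 : orderOf (f τ) = 1 := Nat.eq_one_of_dvd_coprimes (hcop'.pow_right n)
        (orderOf_dvd_of_pow_eq_one h3) (orderOf_dvd_of_pow_eq_one h2)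
      have h6 : fratHom (res τ) = 1 := orderOf_eq_one_iff.1 h4
      have h5 : res τ = 1 := eq_one_of_fratHom hR'p h6
        (Nat.Coprime.coprime_dvd_left (orderOf_map_dvd res τ) hcop')
      exact congrArg (fun β : MulAut R' => ((β ⟨x, hx⟩ : R') : E)) h5
  have hT1 : IsTower p X (c : MulAut E) ⊤ :=
    isTower_step hEp hT0 hinv (fun _ _ _ _ => mem_top _) (fun x _ => hsec x)
  refine mem_of_isEssential_of_isTower F hS hE hsS hsn hT1 (fun τ _ _ h => ?_)
  ext x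
  exact congrArg _ (h x (mem_top x))

theorem mem_of_mem_of_normalizer_two (hS : IsPGroup 2 S) (F : FusionSystem S)
    [Fact (Nat.Prime 2)]
    {P : Subgroup Ω} (hP : F.StronglyClosed P) (hm : Cfsg.IsMetacyclic P)
    (hd : ¬ ∃ m : ℕ, Nonempty (↥P ≃* DihedralGroup m)) (hq : ¬ ∃ m : ℕ, Nonempty (↥P ≃* QuaternionGroup m))
    (hsd : ¬ Cfsg.IsQuasiDihedral ↥P) {E : Subgroup Ω} (hE : F.IsEssential 2 E)
    {s : Ω} (hsP : s ∈ P) (hsn : s ∈ normalizer (E : Set Ω)) : s ∈ E := by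
  classical
  by_contra hsE
  have hES : E ≤ S := hE.1.1
  have hfE : Finite E := finite_of_le hES
  have hPS := hP.1
  have hfP : Finite P := finite_of_le hPS
  have hsS := hPS hsP
  have hEp : IsPGroup 2 E := hS.to_le hES
  have hPp : IsPGroup 2 P := hS.to_le hPS
  let X : Subgroup (MulAut E) := F.autGroup E
  let R' : Subgroup E := P.subgroupOf E
  have hinv : ∀ β ∈ X, ∀ d ∈ R', β d ∈ R' := fun β hβ d hd => StronglyClosed.aut_mem F hP hES hβ hd
  let res : X →* MulAut R' := resHom X R' hinv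
  have hR'p : IsPGroup 2 R' := hEp.to_subgroup R'
  have hR'm : Cfsg.IsMetacyclic R' := by
    have h1 : Cfsg.IsMetacyclic ↥(P ⊓ E) :=
      Cfsg.Agent.Lib.Coprime.MetaAction.isMetacyclic_of_le inf_le_left hm
    refine Cfsg.Agent.Lib.Coprime.MetaAction.isMetacyclic_of_surjective
      { toFun := fun x => ⟨⟨x.1, x.2.2⟩, x.2.1⟩
        map_one' := rfl
        map_mul' := fun _ _ => rfl } ?_ h1
    rintro ⟨⟨x, hxE⟩, hxP⟩
    exact ⟨⟨x, hxP, hxE⟩, rfl⟩
  let u : normalizerIn S E := ⟨s, hsS, hsn⟩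
  let c : X := normToAut F hES u
  have hcdef : c = ⟨normAct E hsn, normAct_mem_autGroup F hES hsS hsn⟩ := rfl
  let f : X →* MulAut (↥R' ⧸ frattini ↥R') := fratAct F hP hES
  obtain ⟨k, hk⟩ : ∃ k : ℕ, c ^ 2 ^ k = 1 := by
    obtain ⟨k, hk⟩ := hS ⟨s, hsS⟩
    refine ⟨k, ?_⟩
    rw [← map_pow]
    have hk' : s ^ 2 ^ k = 1 := by
      simpa using congrArg Subtype.val hk
    have : u ^ 2 ^ k = 1 := by
      apply Subtype.ext
      simpa using hk'
    rw [this, map_one]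
  have hfk : f c ^ 2 ^ k = 1 := by rw [← map_pow, hk, map_one]
  -- the Frattini quotient is small
  have hV : Nat.card (↥R' ⧸ frattini ↥R') ≤ 4 :=
    Cfsg.Agent.Lib.PGroups.MetacyclicAut.index_frattini_le hR'p hR'm
  have hfV : Finite (↥R' ⧸ frattini ↥R') := inferInstance
  have h6 : Nat.card (MulAut (↥R' ⧸ frattini ↥R')) ∣ 6 := card_mulAut_dvd_six hV
  have hfA : Finite (MulAut (↥R' ⧸ frattini ↥R')) :=
    Finite.of_injective (fun e : MulAut (↥R' ⧸ frattini ↥R') => (e : (↥R' ⧸ frattini ↥R') → (↥R' ⧸ frattini ↥R')))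
      DFunLike.coe_injective
  have hfc2 : f c ^ 2 = 1 := by
    have h1 : orderOf (f c) ∣ 6 := (_root_.orderOf_dvd_natCard _).trans h6
    obtain ⟨r, -, hr⟩ := (Nat.dvd_prime_pow Nat.prime_two).1 (orderOf_dvd_of_pow_eq_one hfk)
    rw [hr] at h1
    have h2 : r ≤ 1 := by
      by_contra hlt
      have h3 : (4 : ℕ) ∣ 2 ^ r := by
        have h4 : 2 ≤ r := by omega
        exact (pow_dvd_pow 2 h4)
      have h5 : (4 : ℕ) ∣ 6 := h3.trans h1
      omega
    apply orderOf_dvd_iff_pow_eq_one.1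
    rw [hr]
    exact pow_dvd_pow 2 h2
  -- `s²` lies in `E`
  have hs2 : s ^ 2 ∈ E := by
    have hn2 : s ^ 2 ∈ normalizer (E : Set Ω) := Subgroup.pow_mem _ hsn 2
    refine mem_of_fratAct hS F hP hE (P.pow_mem hsP 2) hn2 ⊥ ?_ ?_ ?_
    · intro g z hz
      rw [mem_bot] at hz ⊢
      rw [hz]
      simp
    · exact IsPGroup.of_bot
    · rw [mem_bot]
      have h1 : (⟨normAct E hn2, normAct_mem_autGroup F hES (S.pow_mem hsS 2) hn2⟩ : X) = c ^ 2 := by
        rw [← map_pow]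
        rfl
      show f _ = 1
      rw [h1, map_pow, hfc2]
  -- some conjugate is outside `⟨f c⟩`
  have h1 : ∃ g : X, f (g * c * g⁻¹) ∉ zpowers (f c) := by
    by_contra hcon
    push Not at hcon
    apply hsE
    refine mem_of_fratAct hS F hP hE hsP hsn (zpowers (f c)) ?_ ?_ (mem_zpowers _)
    · intro g z hz
      obtain ⟨n, rfl⟩ := mem_zpowers_iff.1 hz
      rw [← conj_zpow]
      apply zpow_mem
      have := hcon g
      rwa [map_mul, map_mul, map_inv] at this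
    · rw [IsPGroup.iff_card, Nat.card_zpowers]
      obtain ⟨r, -, hr⟩ := (Nat.dvd_prime_pow Nat.prime_two).1 (orderOf_dvd_of_pow_eq_one hfk)
      exact ⟨r, hr⟩
  obtain ⟨g, hg⟩ := h1
  have hfc1 : f c ≠ 1 := by
    intro h
    apply hg
    rw [map_mul, map_mul, map_inv, h, mul_one, mul_inv_cancel]
    exact one_mem _
  have hg1 : f (g * c * g⁻¹) ≠ 1 := fun h => hg (h ▸ one_mem _)
  have hg2 : f (g * c * g⁻¹) ≠ f c := fun h => hg (h ▸ mem_zpowers _)
  have hnot2 : ¬ IsPGroup 2 (MulAut R') := by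
    intro h2
    let Q := (fratHom (V := R')).range
    have hQ : IsPGroup 2 Q :=
      h2.of_surjective (fratHom (V := R')).rangeRestrict (MonoidHom.rangeRestrict_surjective _)
    have hcard : Nat.card Q ≤ 2 := by
      obtain ⟨j, hj⟩ := (IsPGroup.iff_card).1 hQ
      have h3 : Nat.card Q ∣ 6 := (Subgroup.card_subgroup_dvd_card Q).trans h6
      rw [hj] at h3 ⊢
      have h4 : j ≤ 1 := by
        by_contra hlt
        have h5 : (4 : ℕ) ∣ 2 ^ j := pow_dvd_pow 2 (show 2 ≤ j by omega)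
        have h7 : (4 : ℕ) ∣ 6 := h5.trans h3
        omega
      calc 2 ^ j ≤ 2 ^ 1 := Nat.pow_le_pow_right (by norm_num) h4
        _ = 2 := rfl
    have := eq_of_card_le_two hcard (x := ⟨f (g * c * g⁻¹), ⟨res _, rfl⟩⟩) (y := ⟨f c, ⟨res c, rfl⟩⟩)
      (fun h => hg1 (congrArg Subtype.val h)) (fun h => hfc1 (congrArg Subtype.val h))
    exact hg2 (congrArg Subtype.val this)
  -- the pure statement
  let ι : R' →* ↥P :=
    { toFun := fun x => ⟨x.1.1, x.2⟩
      map_one' := rfl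
      map_mul' := fun _ _ => rfl }
  have hι : Function.Injective ι := by
    intro x y h
    exact Subtype.ext (Subtype.ext (congrArg (fun z : P => (z : Ω)) h))
  let t : ↥P := ⟨s, hsP⟩
  let κ : MulAut R' := res c
  have hκ : ∀ x, ι (κ x) = t * ι x * t⁻¹ := fun x => rfl
  have ht2 : t ^ 2 ∈ ι.range := ⟨⟨⟨s ^ 2, hs2⟩, P.pow_mem hsP 2⟩, rfl⟩
  have hne : ∃ x : R', κ x * x⁻¹ ∉ frattini R' := by
    by_contra hcon
    push Not at hcon
    apply hfc1
    show fratHom (res c) = 1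
    ext v
    obtain ⟨w, rfl⟩ := QuotientGroup.mk_surjective v
    rw [fratHom_mk]
    show ((κ w : R') : ↥R' ⧸ frattini ↥R') = (w : ↥R' ⧸ frattini ↥R')
    rw [QuotientGroup.eq]
    have h3 := hcon w
    have h4 : (κ w)⁻¹ * w = (κ w)⁻¹ * (κ w * w⁻¹)⁻¹ * (κ w) := by group
    rw [h4]
    have h5 := Subgroup.Normal.conj_mem (inferInstance : (frattini R').Normal) _ ((frattini R').inv_mem h3) (κ w)⁻¹
    simpa using h5
  rcases pure_iota hPp hm hR'm hR'p ι hι t κ hκ ht2 hne hnot2 with h | h | h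
  · exact hd h
  · exact hq h
  · exact hsd h

/-- **S5235**. -/
theorem isNormal_of_metacyclic_two (hS : IsPGroup p S) (F : FusionSystem S) (hF : F.IsSaturated p)
    {P : Subgroup Ω} (hP : F.StronglyClosed P) (hp2 : p = 2) (hm : Cfsg.IsMetacyclic P)
    (hd : ¬ ∃ m : ℕ, Nonempty (↥P ≃* DihedralGroup m)) (hq : ¬ ∃ m : ℕ, Nonempty (↥P ≃* QuaternionGroup m))
    (hsd : ¬ Cfsg.IsQuasiDihedral ↥P) : F.IsNormal P := by
  subst hp2
  refine isNormal_of_stronglyClosed_of_le hS F hF hP (fun E hE => ?_)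
  refine le_of_normalizer_le hS hP.1 (StronglyClosed.le_normalizer F hP) hE.1.1 (fun s hs hsn => ?_)
  exact mem_of_mem_of_normalizer_two hS F hP hm hd hq hsd hE hs hsn

end Cfsg.Agent.Lib.H29.StrongMetaTwo
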